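import Groth.Agent.Fano.K798.DimAlg

/-!
# Dimension of subsets of vector spaces, part 2 (job CT3 of helper470)

Over an algebraically closed field:

* `dimLE_iff`: link with codimension;
* `pit`: components of the zero set of `r` equations; `pit_one`: one equation on an irreducible closed set;
* `dimLE_of_fibres`, `dimLE_of_fibres'`: dimension of a (locally closed) total space;
* `DimGE.image_of_injOn`: injective polynomial maps preserve the dimension of locally closed sets.
-/

set_option autoImplicit false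

universe u

namespace K798.Dim

open LefPen Groth.Agent.Lefpen.H703.ZOpen Module K714.Irr K470.Cur MvPolynomial

variable {k : Type u} [Field k]
variable {V W : Type u} [AddCommGroup V] [Module k V] [AddCommGroup W] [Module k W]

/-- transport of dominance along a polynomial map -/
theorem dimGE_of_image {S : Set V} {S' : Set W} {ψ : W → V} (hψ : IsPolyMap k ψ) (h : S ⊆ ψ '' S') {d : ℕ}
    (hd : DimGE k S d) : DimGE k S' d := by
  obtain ⟨φ, hφ, h1⟩ := hd
  refine ⟨fun w => φ (ψ w), pm_comp hφ hψ, fun O hO hne => ?_⟩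
  obtain ⟨s, hs, hsO⟩ := h1 O hO hne
  obtain ⟨w, hw, rfl⟩ := h hs
  exact ⟨w, hw, hsO⟩

/-- a set with at most one point has dimension zero -/
theorem dimLE_subsingleton {S : Set V} (hS : S.Subsingleton) (r : ℕ) : DimLE k S r := by
  rintro ⟨φ, hφ, h⟩
  obtain ⟨s, hs, -⟩ := h Set.univ isZOpen_univ ⟨0, trivial⟩
  let c : Fin (r + 1) → k := φ s
  have hO : IsZOpen k {x : Fin (r + 1) → k | x 0 - c 0 ≠ 0} :=
    isZOpen_basic (pf_sub (isPolyFun_linear' (LinearMap.proj (R := k) (φ := fun _ : Fin (r + 1) => k) 0))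
      (isPolyFun_const (c 0)))
  obtain ⟨s', hs', h'⟩ := h _ hO ⟨fun _ => c 0 + 1, by simp⟩
  rw [hS hs' hs] at h'
  exact h' (sub_self _)

/-- an irreducible subset of a finite set is a point -/
theorem eq_of_irr_finite {S F : Set V} (hS : Irr k S) (hF : F.Finite) (h : S ⊆ F) {v w : V} (hv : v ∈ S)
    (hw : w ∈ S) : v = w := by
  classical
  by_contra hne
  have hpt : ∀ x : V, IsZOpen k ({x}ᶜ : Set V) := by
    intro x y hy
    have hxy : y - x ≠ 0 := sub_ne_zero.2 hy
    obtain ⟨l, hl⟩ : ∃ l : Module.Dual k V, l (y - x) ≠ 0 := by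
      by_contra hcon
      push Not at hcon
      exact hxy ((Module.forall_dual_apply_eq_zero_iff k _).1 hcon)
    refine ⟨fun z => l z - l x, pf_sub (isPolyFun_linear l) (isPolyFun_const _), ?_, ?_⟩
    · simpa [map_sub] using hl
    · intro z hz hzx
      rw [Set.mem_singleton_iff] at hzx
      rw [hzx] at hz
      exact hz (sub_self _)
  have hO : ∀ x : V, IsZOpen k (⋂ y ∈ hF.toFinset.erase x, ({y}ᶜ : Set V)) := fun x =>
    isZOpen_biInter_finset _ fun y _ => hpt y
  have hm : ∀ x : V, x ∈ ⋂ y ∈ hF.toFinset.erase x, ({y}ᶜ : Set V) := by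
    intro x
    simp only [Set.mem_iInter]
    intro y hy hxy
    exact (Finset.ne_of_mem_erase hy) (Set.mem_singleton_iff.1 hxy).symm
  have hm' : ∀ x z : V, z ∈ F → z ∈ ⋂ y ∈ hF.toFinset.erase x, ({y}ᶜ : Set V) → z = x := by
    intro x z hz h1
    by_contra hzx
    simp only [Set.mem_iInter] at h1
    exact h1 z (Finset.mem_erase.2 ⟨hzx, hF.mem_toFinset.2 hz⟩) rfl
  obtain ⟨z, hz, hz1, hz2⟩ := hS.2 _ _ (hO v) (hO w) ⟨v, hv, hm v⟩ ⟨w, hw, hm w⟩
  exact hne ((hm' v z (h hz) hz1).symm.trans (hm' w z (h hz) hz2))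

section AC

variable [IsAlgClosed k] [FiniteDimensional k V] [FiniteDimensional k W]

attribute [local instance] isDomain_polyAlg finiteType_polyAlg isNoetherianRing_polyAlg

omit [FiniteDimensional k W] in
/-- link with codimension -/
theorem dimLE_iff_codimGE {S : Set V} {d : ℕ} (hd : d ≤ finrank k V) :
    DimLE k S d ↔ CodimGE k S (finrank k V - d) := by
  have : Infinite k := IsAlgClosed.instInfinite
  exact dimLE_iff hd

omit [FiniteDimensional k W] in
/-- components of the zero set of `r` equations -/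
theorem pit {r : ℕ} {h : Fin r → V → k} (hh : ∀ i, IsPolyFun k (h i)) {C : Set V}
    (hC : IsComp k {v | ∀ i, h i v = 0} C) {d : ℕ} (hd : d + r ≤ finrank k V) : DimGE k C d := by
  classical
  have : Infinite k := IsAlgClosed.instInfinite
  have hp := isPrime_of_irr hC.2.1
  let f : Fin r → PolyAlg k V := fun i => ⟨h i, hh i⟩
  let s : Finset (PolyAlg k V) := Finset.univ.image f
  have hs : Ideal.span (s : Set (PolyAlg k V)) ≤ vanishingFun k C := by
    rw [Ideal.span_le]
    intro g hg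
    simp only [s, Finset.coe_image, Finset.coe_univ, Set.image_univ, Set.mem_range] at hg
    obtain ⟨i, rfl⟩ := hg
    exact fun v hv => hC.1 hv i
  have hmin : vanishingFun k C ∈ (Ideal.span (s : Set (PolyAlg k V))).minimalPrimes := by
    refine ⟨⟨hp, hs⟩, ?_⟩
    rintro Q ⟨hQ, hsQ⟩ hle
    have h1 : zer Q ⊆ {v | ∀ i, h i v = 0} := by
      intro v hv i
      exact hv (f i) (hsQ (Ideal.subset_span (by simp [s])))
    have h2 : C ⊆ zer Q := fun v hv g hg => hle hg v hv
    have h3 := hC.2.2 (zer Q) h1 (irr_zer Q) h2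
    rw [← h3, vanishingFun_zer]
  have h1 := Ideal.height_le_card_of_mem_minimalPrimes_span_finset hmin
  have h2 : s.card ≤ r := by
    refine Finset.card_image_le.trans ?_
    simp
  refine dimGE_of_prime (vanishingFun k C) le_rfl ?_
  calc (vanishingFun k C).height + (d : ℕ∞) ≤ (r : ℕ∞) + d := by
        gcongr
        exact h1.trans (by exact_mod_cast h2)
    _ = ((d + r : ℕ) : ℕ∞) := by push_cast; ring
    _ ≤ _ := by exact_mod_cast hd

omit [FiniteDimensional k W] in
/-- one equation on an irreducible closed set -/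
theorem pit_one {S : Set V} (hS : Irr k S) (hc : IsZOpen k Sᶜ) {g : V → k} (hg : IsPolyFun k g) {v : V}
    (hv : v ∈ S) (hgv : g v = 0) {d : ℕ} (hd : DimGE k S (d + 1)) :
    ∃ C : Set V, C ⊆ S ∩ {v | g v = 0} ∧ Irr k C ∧ IsZOpen k Cᶜ ∧ v ∈ C ∧ DimGE k C d := by
  have : Infinite k := IsAlgClosed.instInfinite
  have hp := isPrime_of_irr hS
  have hm : (vanishingFun k ({v} : Set V)).IsPrime := by
    refine ⟨fun h => ?_, ?_⟩
    · have h1 : (1 : PolyAlg k V) ∈ vanishingFun k ({v} : Set V) := by rw [h]; trivial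
      exact one_ne_zero (h1 v rfl)
    · intro a b hab
      have h1 : a.1 v * b.1 v = 0 := hab v rfl
      rcases mul_eq_zero.1 h1 with h1 | h1
      · left
        rintro w rfl
        exact h1
      · right
        rintro w rfl
        exact h1
  have hle : vanishingFun k S ⊔ Ideal.span {(⟨g, hg⟩ : PolyAlg k V)} ≤ vanishingFun k ({v} : Set V) := by
    refine sup_le (vanishingFun_anti (Set.singleton_subset_iff.2 hv)) ?_
    rw [Ideal.span_le, Set.singleton_subset_iff]
    rintro w rfl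
    exact hgv
  obtain ⟨Q, hQmin, hQle⟩ := Ideal.exists_minimalPrimes_le hle
  have hQ : Q.IsPrime := hQmin.1.1
  have h1 := height_le_add_ncard k (Set.finite_singleton _) hQmin
  rw [Set.ncard_singleton] at h1
  have h2 := height_le_of_dimGE hd
  refine ⟨zer Q, ?_, irr_zer Q, isZOpen_compl_zer Q, fun f hf => hQle hf v rfl, ?_⟩
  · refine Set.subset_inter ?_ ?_
    · rw [← zer_vanishingFun hc]
      exact zer_anti (le_sup_left.trans hQmin.1.2)
    · intro w hw
      exact hw ⟨g, hg⟩ (hQmin.1.2 (Ideal.mem_sup_right (Ideal.subset_span rfl)))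
  · refine dimGE_of_prime Q (vanishingFun_zer Q).le ?_
    calc Q.height + (d : ℕ∞) ≤ (vanishingFun k S).height + ((1 : ℕ) : ℕ∞) + d := by gcongr
      _ = (vanishingFun k S).height + ((d + 1 : ℕ) : ℕ∞) := by push_cast; ring
      _ ≤ _ := h2

omit [IsAlgClosed k] [FiniteDimensional k W] in
/-- Noether normalisation of an irreducible closed set: `t = dim` functions with finite common fibres. -/
theorem exists_noether [Infinite k] (p : Ideal (PolyAlg k V)) [p.IsPrime] {t h : ℕ} (hh : p.height = h)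
    (ht : h + t = finrank k V) :
    ∃ y : Fin t → PolyAlg k V, ∀ c : Fin t → k, {v ∈ zer p | ∀ i, (y i).1 v = c i}.Finite := by
  classical
  obtain ⟨e, h', h1, h2, h3⟩ := exists_nat_dim p
  have het : e = t := by
    rw [hh] at h2
    have : h = h' := by exact_mod_cast h2
    omega
  subst het
  obtain ⟨y, -, hy⟩ := exists_noether_alg p h1
  refine ⟨y, fun c => ?_⟩
  let b := finBasis k V
  choose F hF hFp using fun j => hy ⟨fun v => b.coord j v, isPolyFun_linear' (b.coord j)⟩
  let R : Fin (finrank k V) → Set k := fun j => {x | x ∈ ((F j).map (eval c : MvPolynomial (Fin e) k →+* k)).roots}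
  have hR : ∀ j, (R j).Finite := fun j =>
    (((F j).map (eval c : MvPolynomial (Fin e) k →+* k)).roots.toFinset.finite_toSet).subset fun x hx => by
      simpa [R] using hx
  refine Set.Finite.of_finite_image (f := b.equivFun) ((Set.Finite.pi' hR).subset ?_) b.equivFun.injective.injOn
  rintro _ ⟨v, ⟨hv, hvc⟩, rfl⟩ j
  have h4 := hv _ (hFp j)
  have h5 : Groth.Agent.Lefpen.H703.Elim.ev k v (Polynomial.eval₂
      (aeval y : MvPolynomial (Fin e) k →ₐ[k] PolyAlg k V).toRingHom
      ⟨fun v => b.coord j v, isPolyFun_linear' (b.coord j)⟩ (F j)) = 0 := h4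
  rw [Polynomial.hom_eval₂] at h5
  have h6 : (Groth.Agent.Lefpen.H703.Elim.ev k v).comp
      (aeval y : MvPolynomial (Fin e) k →ₐ[k] PolyAlg k V).toRingHom = eval c := by
    refine MvPolynomial.ringHom_ext (fun a => ?_) fun i => ?_
    · simp
    · simp [hvc i]
  rw [h6] at h5
  change b.equivFun v j ∈ ((F j).map (eval c : MvPolynomial (Fin e) k →+* k)).roots
  rw [Polynomial.mem_roots ((hF j).map _).ne_zero, Polynomial.IsRoot.def, Polynomial.eval_map]
  exact h5

/-- dimension of a (locally closed) total space -/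
theorem dimLE_of_fibres {X O : Set (V × W)} (hX : IsZOpen k Xᶜ) (hO : IsZOpen k O) {m r : ℕ}
    (hm : DimLE k (Prod.fst '' (X ∩ O)) m) (hr : ∀ v, DimLE k {w | (v, w) ∈ X ∩ O} r) :
    DimLE k (X ∩ O) (m + r) := by
  classical
  have : Infinite k := IsAlgClosed.instInfinite
  intro hcon
  obtain ⟨P, hPmin, hP⟩ := dimGE_iff.1 hcon
  have hPp : P.IsPrime := hPmin.1.1
  -- the image of the component
  let π : PolyAlg k V →+* PolyAlg k (V × W) :=
    { toFun := fun f => ⟨fun q => f.1 q.1, pf_comp f.2 isPolyMap_fst⟩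
      map_one' := rfl
      map_zero' := rfl
      map_add' := fun _ _ => rfl
      map_mul' := fun _ _ => rfl }
  let p : Ideal (PolyAlg k V) := P.comap π
  have hp : p.IsPrime := Ideal.comap_isPrime _ _
  obtain ⟨t, h, -, hh, hht⟩ := exists_nat_dim p
  have htm : t ≤ m := by
    by_contra hlt
    push Not at hlt
    refine hm (dimGE_of_prime p ?_ ?_)
    · intro f hf
      refine hPmin.1.2 ?_
      intro q hq
      exact hf q.1 ⟨q, hq, rfl⟩
    · rw [hh, ← hht]
      norm_cast
      omega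
  obtain ⟨y, hy⟩ := exists_noether p hh hht
  obtain ⟨⟨v, w⟩, hvw, hvwP⟩ := exists_mem_zer hPmin
  -- slice through `(v, w)`
  let s : Set (PolyAlg k (V × W)) := Set.range fun i : Fin t => π (y i) - algebraMap k _ ((y i).1 v)
  have hs : s.Finite := Set.finite_range _
  have hsc : s.ncard ≤ t := by
    have := Set.ncard_image_le (f := fun i : Fin t => π (y i) - algebraMap k _ ((y i).1 v)) (s := Set.univ)
      Set.finite_univ
    rw [Set.image_univ, Set.ncard_univ, Nat.card_fin] at this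
    exact this
  have hle : P ⊔ Ideal.span s ≤ vanishingFun k ({(v, w)} : Set (V × W)) := by
    refine sup_le ?_ ?_
    · rintro f hf _ rfl
      exact hvwP f hf
    · rw [Ideal.span_le]
      rintro _ ⟨i, rfl⟩ _ rfl
      exact sub_self _
  have hmp : (vanishingFun k ({(v, w)} : Set (V × W))).IsPrime := by
    refine isPrime_of_irr ⟨⟨_, rfl⟩, ?_⟩
    rintro O₁ O₂ - - ⟨a, ha, ha1⟩ ⟨b, hb, hb1⟩
    rw [Set.mem_singleton_iff] at ha hb
    subst ha hb
    exact ⟨_, rfl, ha1, hb1⟩
  obtain ⟨Q, hQmin, hQle⟩ := Ideal.exists_minimalPrimes_le hle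
  have hQ : Q.IsPrime := hQmin.1.1
  have h1 := height_le_add_ncard k hs hQmin
  have hirr : Irr k (zer Q ∩ O) := (irr_zer Q).inter_open hO ⟨(v, w), fun f hf => hQle hf _ rfl, hvw.2⟩
  have hQX : zer Q ⊆ X := by
    rw [← zer_vanishingFun hX]
    refine zer_anti ?_
    exact (vanishingFun_anti Set.inter_subset_left).trans (hPmin.1.2.trans (le_sup_left.trans hQmin.1.2))
  have hfst : Irr k (Prod.fst '' (zer Q ∩ O)) := hirr.image isPolyMap_fst
  have hfin := hy fun i => (y i).1 v
  have hsub : Prod.fst '' (zer Q ∩ O) ⊆ {v' ∈ zer p | ∀ i, (y i).1 v' = (y i).1 v} := by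
    rintro _ ⟨q, hq, rfl⟩
    refine ⟨fun f hf => ?_, fun i => ?_⟩
    · exact hq.1 (π f) (hQmin.1.2 (Ideal.mem_sup_left hf))
    · have h2 := hq.1 _ (hQmin.1.2 (Ideal.mem_sup_right (Ideal.subset_span ⟨i, rfl⟩)))
      exact sub_eq_zero.1 h2
  have hpt : ∀ q ∈ zer Q ∩ O, q.1 = v := fun q hq =>
    eq_of_irr_finite hfst hfin hsub ⟨q, hq, rfl⟩ ⟨(v, w), ⟨fun f hf => hQle hf _ rfl, hvw.2⟩, rfl⟩
  have hdim : DimGE k (zer Q ∩ O) (r + 1) := by
    refine dimGE_of_prime Q ?_ ?_
    · rw [vanishingFun_inter (irr_zer Q) hO hirr.1, vanishingFun_zer]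
    · calc Q.height + ((r + 1 : ℕ) : ℕ∞) ≤ (P.height + (s.ncard : ℕ∞)) + ((r + 1 : ℕ) : ℕ∞) := by gcongr
        _ ≤ (P.height + (m : ℕ∞)) + ((r + 1 : ℕ) : ℕ∞) := by
            gcongr
            exact hsc.trans htm
        _ = P.height + ((m + r + 1 : ℕ) : ℕ∞) := by push_cast; ring
        _ ≤ _ := hP
  refine hr v (dimGE_of_image (S := zer Q ∩ O) (ψ := fun w : W => (v, w))
    (pm_prodMk (isPolyMap_const v) isPolyMap_id) ?_ hdim)
  intro q hq
  refine ⟨q.2, ?_, ?_⟩
  · have h2 : (v, q.2) = q := Prod.ext (hpt q hq).symm rfl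
    change (v, q.2) ∈ X ∩ O
    rw [h2]
    exact ⟨hQX hq.1, hq.2⟩
  · exact Prod.ext (hpt q hq).symm rfl

theorem dimLE_of_fibres' {X O : Set (V × W)} (hX : IsZOpen k Xᶜ) (hO : IsZOpen k O) {m r : ℕ}
    (hm : DimLE k (Prod.snd '' (X ∩ O)) m) (hr : ∀ w, DimLE k {v | (v, w) ∈ X ∩ O} r) :
    DimLE k (X ∩ O) (m + r) := by
  have hsw : IsPolyMap k (Prod.swap : W × V → V × W) := pm_prodMk isPolyMap_snd isPolyMap_fst
  have hsw' : IsPolyMap k (Prod.swap : V × W → W × V) := pm_prodMk isPolyMap_snd isPolyMap_fst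
  have h := dimLE_of_fibres (X := Prod.swap ⁻¹' X) (O := Prod.swap ⁻¹' O) (zo_preimage hX hsw)
    (zo_preimage hO hsw) (m := m) (r := r) (by
      have h1 : Prod.fst '' ((Prod.swap ⁻¹' X : Set (W × V)) ∩ Prod.swap ⁻¹' O) = Prod.snd '' (X ∩ O) := by
        ext w
        constructor
        · rintro ⟨q, hq, rfl⟩
          exact ⟨q.swap, hq, rfl⟩
        · rintro ⟨q, hq, rfl⟩
          exact ⟨q.swap, hq, rfl⟩
      rw [h1]
      exact hm) (fun w => hr w)
  intro hcon
  exact h (dimGE_of_image hsw (fun q hq => ⟨q.swap, hq, rfl⟩) hcon)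

/-- injective polynomial maps preserve the dimension of locally closed sets -/
theorem DimGE.image_of_injOn {X O : Set V} (hX : IsZOpen k Xᶜ) (hO : IsZOpen k O) {φ : V → W}
    (hφ : IsPolyMap k φ) (hi : Set.InjOn φ (X ∩ O)) {d : ℕ} (hd : DimGE k (X ∩ O) d) :
    DimGE k (φ '' (X ∩ O)) d := by
  have : Infinite k := IsAlgClosed.instInfinite
  rcases d with _ | m
  · obtain ⟨s, hs, -⟩ := hd.choose_spec.2 Set.univ isZOpen_univ ⟨0, trivial⟩
    refine ⟨fun _ => 0, isPolyMap_const _, fun O' _ hne => ?_⟩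
    obtain ⟨x, hx⟩ := hne
    exact ⟨φ s, ⟨s, hs, rfl⟩, by rwa [Subsingleton.elim (0 : Fin 0 → k) x]⟩
  · by_contra hcon
    let X' : Set (W × V) := {q | q.2 ∈ X ∧ q.1 = φ q.2}
    let O' : Set (W × V) := {q | q.2 ∈ O}
    have hO' : IsZOpen k O' := zo_preimage hO isPolyMap_snd
    have hX' : IsZOpen k X'ᶜ := by
      have h1 : X'ᶜ = Prod.snd ⁻¹' Xᶜ ∪ {q : W × V | ∃ l : Module.Dual k W, l q.1 - l (φ q.2) ≠ 0} := by
        ext q
        simp only [X', Set.mem_compl_iff, Set.mem_ofPred_eq, Set.mem_union, Set.mem_preimage, not_and_or]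
        refine or_congr Iff.rfl ?_
        rw [← not_iff_not, not_not]
        push Not
        constructor
        · intro h l
          rw [h, sub_self]
        · intro h
          rw [← sub_eq_zero]
          exact (Module.forall_dual_apply_eq_zero_iff k _).1 fun l => by rw [map_sub]; exact h l
      rw [h1]
      refine zo_union (zo_preimage hX isPolyMap_snd) (isZOpen_compl_zeros fun l => ?_)
      exact pf_sub (isPolyMap_fst l) (pm_comp hφ isPolyMap_snd l)
    have h1 : Prod.fst '' (X' ∩ O') = φ '' (X ∩ O) := by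
      ext w
      constructor
      · rintro ⟨q, ⟨⟨h1, h2⟩, h3⟩, rfl⟩
        exact ⟨q.2, ⟨h1, h3⟩, h2.symm⟩
      · rintro ⟨v, ⟨h1, h2⟩, rfl⟩
        exact ⟨(φ v, v), ⟨⟨h1, rfl⟩, h2⟩, rfl⟩
    have h2 := dimLE_of_fibres (X := X') (O := O') hX' hO' (m := m) (r := 0) (by rw [h1]; exact hcon)
      (fun w => dimLE_subsingleton (by
        rintro v ⟨⟨h2, h3⟩, h4⟩ v' ⟨⟨h2', h3'⟩, h4'⟩
        exact hi ⟨h2, h4⟩ ⟨h2', h4'⟩ (h3.symm.trans h3')) 0)
    refine h2 (dimGE_of_image (S := X ∩ O) isPolyMap_snd ?_ hd)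
    rintro v ⟨hv, hv'⟩
    exact ⟨(φ v, v), ⟨⟨hv, rfl⟩, hv'⟩, rfl⟩

end AC

end K798.Dim
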