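import Groth.Agent.Fano.K713.BinFactor
import Groth.Agent.RatCurv.K888.BinForm
import Mathlib.Algebra.MvPolynomial.Funext

/-!
# Binary forms as coefficient vectors

* `bv a s t = ∑ a_i s^(d-i) t^i` for `a : Fin (d+1) → k`.
* `bezout`: for forms `P`, `Q` of positive degrees `p`, `q` without common zero every form of degree `p + q - 1` is
  `a P + b Q`.
* `bezout_step`: the same in degree `n + 2` if it holds in degree `n`.
* `exists_syz`: for `P_0`, `P_1` of degree `d` and a point `x_0` there are `n_0`, `n_1` of degree `d` with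
  `P_0 n_0 + P_1 n_1 = 0`, not both vanishing at `x_0`.
* `exists_avoid`: if `P_0`, `P_1`, `D` have no common zero and `D ≠ 0`, then `P_0 + β P_1` and `D` have no common zero
  for some `β`.
-/

set_option autoImplicit false

universe u

open MvPolynomial

namespace K798.TwBin

variable {k : Type u} [Field k]

/-- the value of a binary form -/
def bv {d : ℕ} (a : Fin (d + 1) → k) (s t : k) : k := ∑ i : Fin (d + 1), a i * (s ^ (d - (i : ℕ)) * t ^ (i : ℕ))

/-- the binary form -/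
noncomputable def bp {d : ℕ} (a : Fin (d + 1) → k) : MvPolynomial (Fin 2) k :=
  ∑ i : Fin (d + 1), C (a i) * (X 0 ^ (d - (i : ℕ)) * X 1 ^ (i : ℕ))

theorem eval_bp {d : ℕ} (a : Fin (d + 1) → k) (x : Fin 2 → k) : eval x (bp a) = bv a (x 0) (x 1) := by
  simp only [bp, bv, map_sum, map_mul, map_pow, eval_C, eval_X]

theorem isHomogeneous_bp {d : ℕ} (a : Fin (d + 1) → k) : (bp a).IsHomogeneous d := by
  refine (mem_homogeneousSubmodule _ _).1 (Submodule.sum_mem _ fun m _ => (mem_homogeneousSubmodule _ _).mpr ?_)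
  have h1 := ((isHomogeneous_X k (0 : Fin 2)).pow (d - (m : ℕ))).mul ((isHomogeneous_X k (1 : Fin 2)).pow (m : ℕ))
  have h2 := (isHomogeneous_C (Fin 2) (a m)).mul h1
  have e : 0 + (1 * (d - (m : ℕ)) + 1 * (m : ℕ)) = d := by have := m.2; omega
  rw [e] at h2
  exact h2

theorem exists_bp {d : ℕ} {F : MvPolynomial (Fin 2) k} (hF : F.IsHomogeneous d) :
    ∃ a : Fin (d + 1) → k, bp a = F := by
  let ex : ℕ → (Fin 2 →₀ ℕ) := fun m => Finsupp.single 0 (d - m) + Finsupp.single 1 m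
  have ex0 : ∀ m, ex m 0 = d - m := fun m => by simp [ex]
  have ex1 : ∀ m, ex m 1 = m := fun m => by simp [ex]
  refine ⟨fun m => coeff (ex m) F, ?_⟩
  have h0 : ∀ m : Fin (d + 1), C (coeff (ex m) F) * (X 0 ^ (d - (m : ℕ)) * X 1 ^ (m : ℕ)) =
      monomial (ex m) (coeff (ex m) F) := by
    intro m
    rw [X_pow_eq_monomial, X_pow_eq_monomial, monomial_mul, C_mul_monomial, mul_one, mul_one]
  rw [bp, Finset.sum_congr rfl fun m _ => h0 m]
  ext s
  rw [coeff_sum]
  simp_rw [coeff_monomial]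
  by_cases hs : s 0 + s 1 = d
  · have h1 : s 1 < d + 1 := by omega
    have h2 : ex (s 1) = s := by
      ext i
      fin_cases i
      · change ex (s 1) 0 = s 0
        rw [ex0]; omega
      · change ex (s 1) 1 = s 1
        rw [ex1]
    rw [Finset.sum_eq_single (⟨s 1, h1⟩ : Fin (d + 1))]
    · rw [if_pos h2, h2]
    · intro m _ hm
      rw [if_neg]
      intro h
      apply hm
      ext
      change (m : ℕ) = s 1
      rw [← h, ex1]
    · intro h; exact absurd (Finset.mem_univ _) h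
  · have h3 : s.degree ≠ d := by
      rw [Finsupp.degree_eq_sum, Fin.sum_univ_two]
      exact hs
    rw [hF.coeff_eq_zero h3]
    refine Finset.sum_eq_zero fun m _ => ?_
    rw [if_neg]
    rintro h
    apply hs
    rw [← h, ex0, ex1]
    have := m.2
    omega

/-- forms are determined by their values -/
theorem eq_of_eval [Infinite k] {F G : MvPolynomial (Fin 2) k} (h : ∀ s t : k, eval ![s, t] F = eval ![s, t] G) :
    F = G := by
  refine MvPolynomial.funext fun x => ?_
  have : x = ![x 0, x 1] := by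
    ext i; fin_cases i <;> rfl
  rw [this]
  exact h _ _

theorem bv_zero_left {d : ℕ} {a : Fin (d + 1) → k} (h : bp a = 0) (s t : k) : bv a s t = 0 := by
  have := eval_bp a ![s, t]
  rw [h, map_zero] at this
  exact this.symm

/-- a form all of whose values vanish is zero -/
theorem eq_zero_of_bv [Infinite k] {d : ℕ} {a : Fin (d + 1) → k} (h : ∀ s t : k, bv a s t = 0) : a = 0 := by
  have h1 : bp a = 0 := eq_of_eval fun s t => by
    rw [eval_bp, map_zero]
    exact h s t
  ext i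
  let ex : Fin 2 →₀ ℕ := Finsupp.single 0 (d - (i : ℕ)) + Finsupp.single 1 (i : ℕ)
  have h2 : coeff ex (bp a) = a i := by
    have h0 : ∀ m : Fin (d + 1), C (a m) * (X 0 ^ (d - (m : ℕ)) * X 1 ^ (m : ℕ)) =
        monomial (Finsupp.single (0 : Fin 2) (d - (m : ℕ)) + Finsupp.single 1 (m : ℕ)) (a m) := by
      intro m
      rw [X_pow_eq_monomial, X_pow_eq_monomial, monomial_mul, C_mul_monomial, mul_one, mul_one]
    rw [bp, Finset.sum_congr rfl fun m _ => h0 m, coeff_sum]
    simp_rw [coeff_monomial]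
    rw [Finset.sum_eq_single i]
    · rw [if_pos rfl]
    · intro m _ hm
      rw [if_neg]
      intro h3
      apply hm
      have := DFunLike.congr_fun h3 1
      ext
      simpa [ex] using this
    · intro h; exact absurd (Finset.mem_univ _) h
  rw [← h2, h1, coeff_zero]
  rfl

theorem ne_zero_of_ne {s t : k} (h : s ≠ 0 ∨ t ≠ 0) : (![s, t] : Fin 2 → k) ≠ 0 := by
  intro h0
  rcases h with h | h
  · exact h (congrFun h0 0)
  · exact h (congrFun h0 1)

theorem or_of_ne_zero {x : Fin 2 → k} (h : x ≠ 0) : x 0 ≠ 0 ∨ x 1 ≠ 0 := by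
  by_contra hcon
  push Not at hcon
  apply h
  ext i
  fin_cases i
  · exact hcon.1
  · exact hcon.2

theorem eq_zero_of_rel {P Q a b : MvPolynomial (Fin 2) k} {p q : ℕ} (hQ : Q.IsHomogeneous q) (hQ0 : Q ≠ 0)
    (ha : a.IsHomogeneous p) (hpq : p < q) (hrel : IsRelPrime P Q) (h : a * P + b * Q = 0) : a = 0 := by
  have h1 : Q ∣ a * P := ⟨-b, by linear_combination h⟩
  have h2 : Q ∣ a := hrel.symm.dvd_of_dvd_mul_right h1
  by_contra ha0
  obtain ⟨r, hr⟩ := h2
  have h3 := ha.totalDegree ha0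
  have hr0 : r ≠ 0 := by
    rintro rfl
    exact ha0 (by rw [hr, mul_zero])
  rw [hr, totalDegree_mul_of_isDomain hQ0 hr0, hQ.totalDegree hQ0] at h3
  omega

/-- Forms of degree `deg P + deg Q - 1` are combinations of `P` and `Q` if these have no common zero. -/
theorem bezout [IsAlgClosed k] {p q : ℕ} (P : Fin (p + 1 + 1) → k) (Q : Fin (q + 1 + 1) → k)
    (h : ∀ s t : k, (s ≠ 0 ∨ t ≠ 0) → bv P s t = 0 → bv Q s t = 0 → False) (G : Fin (p + q + 1 + 1) → k) :
    ∃ (a : Fin (q + 1) → k) (b : Fin (p + 1) → k), ∀ s t : k,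
      bv a s t * bv P s t + bv b s t * bv Q s t = bv G s t := by
  have hP := isHomogeneous_bp P
  have hQ := isHomogeneous_bp Q
  have hno : ∀ x : Fin 2 → k, x ≠ 0 → eval x (bp P) = 0 → eval x (bp Q) = 0 → False := by
    intro x hx h1 h2
    rw [eval_bp] at h1 h2
    exact h _ _ (or_of_ne_zero hx) h1 h2
  have hrel := K713.Binary.isRelPrime_of_no_common_zero hP hQ hno
  have hP0 : bp P ≠ 0 := by
    intro h0
    obtain ⟨x, hx, hx0⟩ := K713.Binary.exists_zero hQ (Nat.succ_pos _)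
    exact hno x hx (by rw [h0, map_zero]) hx0
  have hQ0 : bp Q ≠ 0 := by
    intro h0
    obtain ⟨x, hx, hx0⟩ := K713.Binary.exists_zero hP (Nat.succ_pos _)
    exact hno x hx hx0 (by rw [h0, map_zero])
  let PP : K888.BinForm.S k (p + 1) := ⟨bp P, (mem_homogeneousSubmodule _ _).2 hP⟩
  let QQ : K888.BinForm.S k (q + 1) := ⟨bp Q, (mem_homogeneousSubmodule _ _).2 hQ⟩
  let Φ : (K888.BinForm.S k q × K888.BinForm.S k p) →ₗ[k] K888.BinForm.S k (p + q + 1) :=
    ((K888.BinForm.mulS q (p + 1) (p + q + 1) (by omega)).flip PP).coprod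
      ((K888.BinForm.mulS p (q + 1) (p + q + 1) (by omega)).flip QQ)
  have hΦ : ∀ a b, ((Φ (a, b) : K888.BinForm.S k (p + q + 1)) : MvPolynomial (Fin 2) k) = a.1 * bp P + b.1 * bp Q :=
    fun a b => rfl
  have hinj : Function.Injective Φ := by
    rw [injective_iff_map_eq_zero]
    rintro ⟨a, b⟩ hab
    have h1 : a.1 * bp P + b.1 * bp Q = 0 := by
      rw [← hΦ, hab]
      rfl
    have ha : a.1 = 0 := eq_zero_of_rel hQ hQ0 ((mem_homogeneousSubmodule _ _).1 a.2) (Nat.lt_succ_self _) hrel h1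
    have hb : b.1 = 0 := eq_zero_of_rel hP hP0 ((mem_homogeneousSubmodule _ _).1 b.2) (Nat.lt_succ_self _)
      hrel.symm (by rw [add_comm]; exact h1)
    exact Prod.ext (Subtype.ext ha) (Subtype.ext hb)
  have hfin : Module.finrank k (K888.BinForm.S k q × K888.BinForm.S k p) =
      Module.finrank k (K888.BinForm.S k (p + q + 1)) := by
    rw [Module.finrank_prod, K888.BinForm.finrank_S, K888.BinForm.finrank_S, K888.BinForm.finrank_S]
    omega
  have hsurj : Function.Surjective Φ := (LinearMap.injective_iff_surjective_of_finrank_eq_finrank hfin).1 hinj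
  obtain ⟨⟨a, b⟩, hab⟩ := hsurj ⟨bp G, (mem_homogeneousSubmodule _ _).2 (isHomogeneous_bp G)⟩
  obtain ⟨a', ha'⟩ := exists_bp ((mem_homogeneousSubmodule _ _).1 a.2)
  obtain ⟨b', hb'⟩ := exists_bp ((mem_homogeneousSubmodule _ _).1 b.2)
  refine ⟨a', b', fun s t => ?_⟩
  have h1 : a.1 * bp P + b.1 * bp Q = bp G := by
    rw [← hΦ, hab]
  have h2 := congrArg (eval ![s, t]) h1
  rw [← ha', ← hb', map_add, map_mul, map_mul] at h2
  simp only [eval_bp] at h2
  exact h2

/-- multiplication of forms by forms, on coefficient vectors -/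
theorem exists_mul {p q : ℕ} (a : Fin (p + 1) → k) (b : Fin (q + 1) → k) :
    ∃ c : Fin (p + q + 1) → k, ∀ s t : k, bv c s t = bv a s t * bv b s t := by
  obtain ⟨c, hc⟩ := exists_bp ((isHomogeneous_bp a).mul (isHomogeneous_bp b))
  refine ⟨c, fun s t => ?_⟩
  have h := congrArg (eval ![s, t]) hc
  rw [map_mul] at h
  simp only [eval_bp] at h
  exact h

theorem exists_add {p : ℕ} (a b : Fin (p + 1) → k) :
    ∃ c : Fin (p + 1) → k, ∀ s t : k, bv c s t = bv a s t + bv b s t := by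
  refine ⟨a + b, fun s t => ?_⟩
  rw [bv, bv, bv, ← Finset.sum_add_distrib]
  exact Finset.sum_congr rfl fun i _ => add_mul _ _ _

/-- A form vanishing at a point is divisible by the linear form. -/
theorem exists_div [IsAlgClosed k] {d : ℕ} (P : Fin (d + 1 + 1) → k) {s₀ t₀ : k} (h0 : s₀ ≠ 0 ∨ t₀ ≠ 0) (hP : bv P s₀ t₀ = 0) :
    ∃ R : Fin (d + 1) → k, ∀ s t : k, bv P s t = (t₀ * s - s₀ * t) * bv R s t := by
  have hr : (![s₀, t₀] : Fin 2 → k) ≠ 0 := ne_zero_of_ne h0
  have h1 : eval ![s₀, t₀] (bp P) = 0 := by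
    rw [eval_bp]
    exact hP
  obtain ⟨c, hc⟩ := K713.BinFactor.lin_dvd (isHomogeneous_bp P) hr h1
  have h2 : bp P = K713.BinFactor.lin ![s₀, t₀] * homogeneousComponent d c := by
    rw [← K581.HomDim.homogeneousComponent_mul _ _ ((mem_homogeneousSubmodule _ _).2
      (K713.BinFactor.isHomogeneous_lin ![s₀, t₀])), ← hc, add_comm 1 d,
      homogeneousComponent_of_mem ((mem_homogeneousSubmodule _ _).2 (isHomogeneous_bp P)), if_pos rfl]
  obtain ⟨R, hR⟩ := exists_bp (homogeneousComponent_isHomogeneous d c)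
  refine ⟨R, fun s t => ?_⟩
  have h3 := congrArg (eval ![s, t]) h2
  rw [← hR, map_mul, K713.BinFactor.eval_lin] at h3
  simp only [eval_bp] at h3
  exact h3

/-- Syzygies not vanishing at a given point. -/
theorem exists_syz [IsAlgClosed k] : ∀ {d : ℕ} (P₀ P₁ : Fin (d + 1) → k) {s₀ t₀ : k} (_ : s₀ ≠ 0 ∨ t₀ ≠ 0),
    ∃ n₀ n₁ : Fin (d + 1) → k, (∀ s t : k, bv P₀ s t * bv n₀ s t + bv P₁ s t * bv n₁ s t = 0) ∧
      (bv n₀ s₀ t₀ ≠ 0 ∨ bv n₁ s₀ t₀ ≠ 0) := by
  intro d
  induction d with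
  | zero =>
    intro P₀ P₁ s₀ t₀ h0
    by_cases hP : P₀ 0 = 0 ∧ P₁ 0 = 0
    · refine ⟨fun _ => 1, fun _ => 0, fun s t => ?_, Or.inl ?_⟩
      · simp [bv, hP.1]
      · simp [bv]
    · refine ⟨fun _ => - P₁ 0, fun _ => P₀ 0, fun s t => ?_, ?_⟩
      · simp [bv]
        ring
      · simp only [bv]
        simp
        tauto
  | succ d ih =>
    intro P₀ P₁ s₀ t₀ h0
    by_cases hP : bv P₀ s₀ t₀ = 0 ∧ bv P₁ s₀ t₀ = 0
    · obtain ⟨R₀, hR₀⟩ := exists_div P₀ h0 hP.1
      obtain ⟨R₁, hR₁⟩ := exists_div P₁ h0 hP.2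
      obtain ⟨n₀, n₁, hn, hx⟩ := ih R₀ R₁ h0
      obtain ⟨l, hl⟩ : ∃ l : Fin (1 + 1) → k, bv l s₀ t₀ ≠ 0 := by
        rcases h0 with h | h
        · exact ⟨![1, 0], by simpa [bv, Fin.sum_univ_two] using h⟩
        · exact ⟨![0, 1], by simpa [bv, Fin.sum_univ_two] using h⟩
      obtain ⟨m₀, hm₀⟩ := exists_mul n₀ l
      obtain ⟨m₁, hm₁⟩ := exists_mul n₁ l
      refine ⟨m₀, m₁, fun s t => ?_, ?_⟩
      · rw [hm₀, hm₁, hR₀, hR₁]
        linear_combination (t₀ * s - s₀ * t) * bv l s t * hn s t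
      · rw [hm₀, hm₁]
        exact hx.imp (fun h => mul_ne_zero h hl) (fun h => mul_ne_zero h hl)
    · refine ⟨-P₁, P₀, fun s t => ?_, ?_⟩
      · have : bv (-P₁) s t = - bv P₁ s t := by
          rw [bv, bv, ← Finset.sum_neg_distrib]
          exact Finset.sum_congr rfl fun i _ => neg_mul _ _
        rw [this]
        ring
      · have : bv (-P₁) s₀ t₀ = - bv P₁ s₀ t₀ := by
          rw [bv, bv, ← Finset.sum_neg_distrib]
          exact Finset.sum_congr rfl fun i _ => neg_mul _ _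
        rw [this, neg_ne_zero]
        tauto

theorem bv_smul {d : ℕ} (a : Fin (d + 1) → k) (r s t : k) : bv a (r * s) (r * t) = r ^ d * bv a s t := by
  rw [bv, bv, Finset.mul_sum]
  refine Finset.sum_congr rfl fun i _ => ?_
  have h1 : r ^ d = r ^ (d - (i : ℕ)) * r ^ (i : ℕ) := by
    rw [← pow_add]; congr 1; have := i.2; omega
  rw [h1, mul_pow, mul_pow]
  ring

/-- A nonzero form has finitely many zeros on the line `t = 1`. -/
theorem finite_zeros [Infinite k] {d : ℕ} {D : Fin (d + 1) → k} (hD : D ≠ 0) : {s : k | bv D s 1 = 0}.Finite := by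
  let p : Polynomial k := ∑ i : Fin (d + 1), Polynomial.C (D i) * Polynomial.X ^ (d - (i : ℕ))
  have hp : ∀ s, p.eval s = bv D s 1 := by
    intro s
    simp [p, bv, Polynomial.eval_finsetSum]
  have hp0 : p ≠ 0 := by
    intro h0
    apply hD
    ext i
    have h1 : p.coeff (d - (i : ℕ)) = D i := by
      simp only [p, Polynomial.finsetSum_coeff, Polynomial.coeff_C_mul, Polynomial.coeff_X_pow]
      rw [Finset.sum_eq_single i]
      · simp
      · intro j _ hj
        have h2 : d - (i : ℕ) ≠ d - (j : ℕ) := fun h => hj (Fin.ext (by have := i.2; have := j.2; omega))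
        simp [h2]
      · intro h; exact absurd (Finset.mem_univ _) h
    rw [← h1, h0, Polynomial.coeff_zero]
    rfl
  refine (p.rootSet_finite k).subset fun s hs => ?_
  rw [Polynomial.mem_rootSet]
  refine ⟨hp0, ?_⟩
  rw [Polynomial.coe_aeval_eq_eval, hp]
  exact hs

/-- A combination of two forms avoiding the zeros of a third. -/
theorem exists_avoid [Infinite k] {d e : ℕ} (P₀ P₁ : Fin (d + 1) → k) (D : Fin (e + 1) → k) (hD : D ≠ 0)
    (h : ∀ s t : k, (s ≠ 0 ∨ t ≠ 0) → bv P₀ s t = 0 → bv P₁ s t = 0 → bv D s t = 0 → False) :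
    ∃ β : k, ∀ s t : k, (s ≠ 0 ∨ t ≠ 0) → bv P₀ s t + β * bv P₁ s t = 0 → bv D s t = 0 → False := by
  let B : Set k := insert (- bv P₀ 1 0 / bv P₁ 1 0)
    ((fun s => - bv P₀ s 1 / bv P₁ s 1) '' {s : k | bv D s 1 = 0})
  have hB : B.Finite := ((finite_zeros hD).image _).insert _
  obtain ⟨β, hβ⟩ := hB.exists_notMem
  refine ⟨β, fun s t hst h1 h2 => ?_⟩
  have key : ∀ s t : k, (s ≠ 0 ∨ t ≠ 0) → bv P₀ s t + β * bv P₁ s t = 0 → bv D s t = 0 →
      β = - bv P₀ s t / bv P₁ s t := by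
    intro s t hst h1 h2
    have h3 : bv P₁ s t ≠ 0 := by
      intro h3
      rw [h3, mul_zero, add_zero] at h1
      exact h s t hst h1 h3 h2
    rw [eq_div_iff h3]
    linear_combination h1
  by_cases ht : t = 0
  · subst ht
    have hs : s ≠ 0 := hst.resolve_right (fun h => h rfl)
    have e1 := bv_smul P₀ s 1 0
    have e2 := bv_smul P₁ s 1 0
    have e3 := bv_smul D s 1 0
    rw [mul_one, mul_zero] at e1 e2 e3
    rw [e1, e2] at h1
    rw [e3] at h2
    have h4 : bv P₀ 1 0 + β * bv P₁ 1 0 = 0 :=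
      (mul_eq_zero.1 (by linear_combination h1 : s ^ d * (bv P₀ 1 0 + β * bv P₁ 1 0) = 0)).resolve_left
        (pow_ne_zero _ hs)
    have h5 : bv D 1 0 = 0 := (mul_eq_zero.1 h2).resolve_left (pow_ne_zero _ hs)
    exact hβ (Set.mem_insert_iff.2 (Or.inl (key 1 0 (Or.inl one_ne_zero) h4 h5)))
  · have e1 := bv_smul P₀ t (s / t) 1
    have e2 := bv_smul P₁ t (s / t) 1
    have e3 := bv_smul D t (s / t) 1
    rw [mul_div_cancel₀ _ ht, mul_one] at e1 e2 e3
    rw [e1, e2] at h1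
    rw [e3] at h2
    have h4 : bv P₀ (s / t) 1 + β * bv P₁ (s / t) 1 = 0 :=
      (mul_eq_zero.1 (by linear_combination h1 :
        t ^ d * (bv P₀ (s / t) 1 + β * bv P₁ (s / t) 1) = 0)).resolve_left (pow_ne_zero _ ht)
    have h5 : bv D (s / t) 1 = 0 := (mul_eq_zero.1 h2).resolve_left (pow_ne_zero _ ht)
    exact hβ (Set.mem_insert_iff.2 (Or.inr ⟨s / t, h5, (key _ _ (Or.inr one_ne_zero) h4 h5).symm⟩))

end K798.TwBin
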