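import Groth.Agent.Fano.K714.TwDef
import Groth.Agent.Fano.K798.TwBin
import Mathlib.Algebra.CharZero.Infinite

/-!
# First-order deformations of a twisted cubic in a smooth cubic threefold

For `c ∈ TC T` and `D_w(s,t) = T(tpt, tpt, w)` one has `(D_{c_0}, …, D_{c_3}) = P_0 ψ_0 + P_1 ψ_1` with
`ψ_0 = (t^2, -2st, s^2, 0)`, `ψ_1 = (0, t^2, -2st, s^2)` and explicit binary quartics `P_0`, `P_1`.
-/

set_option autoImplicit false
universe u v

namespace K798.TwTan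

open K656.Trilin Module K714.Surf K714.Frames K714.Tw K798.TwBin

variable {k : Type u} [Field k] {V : Type v} [AddCommGroup V] [Module k V]

section Forms

variable (T : V →ₗ[k] V →ₗ[k] V →ₗ[k] k) (c : Fin 4 → V)

/-- the first quartic -/
def P0 : Fin (4 + 1) → k :=
  ![T (c 0) (c 0) (c 2), 2 * T (c 0) (c 0) (c 3) + 2 * T (c 0) (c 1) (c 2),
    2 * T (c 0) (c 1) (c 3) + T (c 0) (c 2) (c 2), 2 * T (c 0) (c 2) (c 3), T (c 0) (c 3) (c 3)]

/-- the second quartic -/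
def P1 : Fin (4 + 1) → k :=
  ![T (c 0) (c 0) (c 3), 2 * T (c 0) (c 1) (c 3), 2 * T (c 0) (c 2) (c 3) + T (c 1) (c 1) (c 3),
    2 * T (c 0) (c 3) (c 3) + 2 * T (c 1) (c 2) (c 3), T (c 1) (c 3) (c 3)]

/-- the sextic of a vector -/
def Dw (w : V) : Fin (6 + 1) → k :=
  ![T (c 0) (c 0) w, 2 * T (c 0) (c 1) w, 2 * T (c 0) (c 2) w + T (c 1) (c 1) w,
    2 * T (c 0) (c 3) w + 2 * T (c 1) (c 2) w, 2 * T (c 1) (c 3) w + T (c 2) (c 2) w,
    2 * T (c 2) (c 3) w, T (c 3) (c 3) w]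

variable {T c}

lemma T_tpt (hT : IsSym3 T) (w : V) (s t : k) : T (tpt c s t) (tpt c s t) w = bv (Dw T c w) s t := by
  have e10 := hT.s12 (c 1) (c 0) w
  have e20 := hT.s12 (c 2) (c 0) w
  have e30 := hT.s12 (c 3) (c 0) w
  have e21 := hT.s12 (c 2) (c 1) w
  have e31 := hT.s12 (c 3) (c 1) w
  have e32 := hT.s12 (c 3) (c 2) w
  simp only [tpt, map_add, map_smul, LinearMap.add_apply, LinearMap.smul_apply, smul_eq_mul, e10, e20, e30, e21,
    e31, e32]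
  simp [bv, Dw, Fin.sum_univ_succ]
  ring

/-- the ten relations -/
lemma rels [CharZero k] (hT : IsSym3 T) (h : ∀ s t : k, T (tpt c s t) (tpt c s t) (tpt c s t) = 0) :
    T (c 0) (c 0) (c 0) = 0 ∧ T (c 0) (c 0) (c 1) = 0 ∧ T (c 0) (c 0) (c 2) + T (c 0) (c 1) (c 1) = 0 ∧
    3 * T (c 0) (c 0) (c 3) + 6 * T (c 0) (c 1) (c 2) + T (c 1) (c 1) (c 1) = 0 ∧
    2 * T (c 0) (c 1) (c 3) + T (c 0) (c 2) (c 2) + T (c 1) (c 1) (c 2) = 0 ∧
    2 * T (c 0) (c 2) (c 3) + T (c 1) (c 1) (c 3) + T (c 1) (c 2) (c 2) = 0 ∧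
    3 * T (c 0) (c 3) (c 3) + 6 * T (c 1) (c 2) (c 3) + T (c 2) (c 2) (c 2) = 0 ∧
    T (c 1) (c 3) (c 3) + T (c 2) (c 2) (c 3) = 0 ∧ T (c 2) (c 3) (c 3) = 0 ∧ T (c 3) (c 3) (c 3) = 0 := by
  let R : Fin (9 + 1) → k :=
    ![T (c 0) (c 0) (c 0), 3 * T (c 0) (c 0) (c 1), 3 * T (c 0) (c 0) (c 2) + 3 * T (c 0) (c 1) (c 1),
      3 * T (c 0) (c 0) (c 3) + 6 * T (c 0) (c 1) (c 2) + T (c 1) (c 1) (c 1),
      6 * T (c 0) (c 1) (c 3) + 3 * T (c 0) (c 2) (c 2) + 3 * T (c 1) (c 1) (c 2),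
      6 * T (c 0) (c 2) (c 3) + 3 * T (c 1) (c 1) (c 3) + 3 * T (c 1) (c 2) (c 2),
      3 * T (c 0) (c 3) (c 3) + 6 * T (c 1) (c 2) (c 3) + T (c 2) (c 2) (c 2),
      3 * T (c 1) (c 3) (c 3) + 3 * T (c 2) (c 2) (c 3), 3 * T (c 2) (c 3) (c 3), T (c 3) (c 3) (c 3)]
  have hinf : Infinite k := inferInstance
  have hR : R = 0 := by
    apply eq_zero_of_bv
    intro s t
    rw [← h s t, T_tpt hT]
    have e010 := hT.s23 (c 0) (c 1) (c 0)
    have e020 := hT.s23 (c 0) (c 2) (c 0)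
    have e030 := hT.s23 (c 0) (c 3) (c 0)
    have e110 := hT.s13 (c 1) (c 1) (c 0)
    have e120 := hT.rot' (c 1) (c 2) (c 0)
    have e130 := hT.rot' (c 1) (c 3) (c 0)
    have e220 := hT.s13 (c 2) (c 2) (c 0)
    have e230 := hT.rot' (c 2) (c 3) (c 0)
    have e330 := hT.s13 (c 3) (c 3) (c 0)
    have e021 := hT.s23 (c 0) (c 2) (c 1)
    have e031 := hT.s23 (c 0) (c 3) (c 1)
    have e121 := hT.s23 (c 1) (c 2) (c 1)
    have e131 := hT.s23 (c 1) (c 3) (c 1)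
    have e221 := hT.s13 (c 2) (c 2) (c 1)
    have e231 := hT.rot' (c 2) (c 3) (c 1)
    have e331 := hT.s13 (c 3) (c 3) (c 1)
    have e032 := hT.s23 (c 0) (c 3) (c 2)
    have e132 := hT.s23 (c 1) (c 3) (c 2)
    have e232 := hT.s23 (c 2) (c 3) (c 2)
    have e332 := hT.s13 (c 3) (c 3) (c 2)
    simp [bv, Dw, R, tpt, Fin.sum_univ_succ, e010, e020, e030, e110, e120, e130, e220, e230, e330, e021, e031, e121,
      e131, e221, e231, e331, e032, e132, e232, e332]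
    ring
  have hr : ∀ i, R i = 0 := fun i => congrFun hR i
  have h3 : (3 : k) ≠ 0 := by norm_num
  have r2 : 3 * T (c 0) (c 0) (c 2) + 3 * T (c 0) (c 1) (c 1) = 0 := hr 2
  have r4 : 6 * T (c 0) (c 1) (c 3) + 3 * T (c 0) (c 2) (c 2) + 3 * T (c 1) (c 1) (c 2) = 0 := hr 4
  have r5 : 6 * T (c 0) (c 2) (c 3) + 3 * T (c 1) (c 1) (c 3) + 3 * T (c 1) (c 2) (c 2) = 0 := hr 5
  have r7 : 3 * T (c 1) (c 3) (c 3) + 3 * T (c 2) (c 2) (c 3) = 0 := hr 7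
  refine ⟨hr 0, ?_, ?_, hr 3, ?_, ?_, hr 6, ?_, ?_, hr 9⟩
  · exact (mul_eq_zero.1 (hr 1)).resolve_left h3
  · exact (mul_eq_zero.1 (by linear_combination r2 : 3 * (T (c 0) (c 0) (c 2) + T (c 0) (c 1) (c 1)) = 0)).resolve_left h3
  · exact (mul_eq_zero.1 (by linear_combination r4 :
      3 * (2 * T (c 0) (c 1) (c 3) + T (c 0) (c 2) (c 2) + T (c 1) (c 1) (c 2)) = 0)).resolve_left h3
  · exact (mul_eq_zero.1 (by linear_combination r5 :
      3 * (2 * T (c 0) (c 2) (c 3) + T (c 1) (c 1) (c 3) + T (c 1) (c 2) (c 2)) = 0)).resolve_left h3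
  · exact (mul_eq_zero.1 (by linear_combination r7 :
      3 * (T (c 1) (c 3) (c 3) + T (c 2) (c 2) (c 3)) = 0)).resolve_left h3
  · exact (mul_eq_zero.1 (hr 8)).resolve_left h3

lemma bv_P0 (s t : k) : bv (P0 T c) s t = T (c 0) (c 0) (c 2) * s ^ 4 +
    (2 * T (c 0) (c 0) (c 3) + 2 * T (c 0) (c 1) (c 2)) * s ^ 3 * t +
    (2 * T (c 0) (c 1) (c 3) + T (c 0) (c 2) (c 2)) * s ^ 2 * t ^ 2 + 2 * T (c 0) (c 2) (c 3) * s * t ^ 3 +
    T (c 0) (c 3) (c 3) * t ^ 4 := by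
  simp [bv, P0, Fin.sum_univ_succ]
  ring

lemma bv_P1 (s t : k) : bv (P1 T c) s t = T (c 0) (c 0) (c 3) * s ^ 4 + 2 * T (c 0) (c 1) (c 3) * s ^ 3 * t +
    (2 * T (c 0) (c 2) (c 3) + T (c 1) (c 1) (c 3)) * s ^ 2 * t ^ 2 +
    (2 * T (c 0) (c 3) (c 3) + 2 * T (c 1) (c 2) (c 3)) * s * t ^ 3 + T (c 1) (c 3) (c 3) * t ^ 4 := by
  simp [bv, P1, Fin.sum_univ_succ]
  ring

lemma bv_Dw (w : V) (s t : k) : bv (Dw T c w) s t = T (c 0) (c 0) w * s ^ 6 + 2 * T (c 0) (c 1) w * s ^ 5 * t +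
    (2 * T (c 0) (c 2) w + T (c 1) (c 1) w) * s ^ 4 * t ^ 2 +
    (2 * T (c 0) (c 3) w + 2 * T (c 1) (c 2) w) * s ^ 3 * t ^ 3 +
    (2 * T (c 1) (c 3) w + T (c 2) (c 2) w) * s ^ 2 * t ^ 4 + 2 * T (c 2) (c 3) w * s * t ^ 5 +
    T (c 3) (c 3) w * t ^ 6 := by
  simp [bv, Dw, Fin.sum_univ_succ]
  ring

/-- the four sextics -/
lemma four [CharZero k] (hT : IsSym3 T) (h : ∀ s t : k, T (tpt c s t) (tpt c s t) (tpt c s t) = 0) (s t : k) :
    bv (Dw T c (c 0)) s t = t ^ 2 * bv (P0 T c) s t ∧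
    bv (Dw T c (c 1)) s t = -2 * s * t * bv (P0 T c) s t + t ^ 2 * bv (P1 T c) s t ∧
    bv (Dw T c (c 2)) s t = s ^ 2 * bv (P0 T c) s t - 2 * s * t * bv (P1 T c) s t ∧
    bv (Dw T c (c 3)) s t = s ^ 2 * bv (P1 T c) s t := by
  obtain ⟨r0, r1, r2, r3, r4, r5, r6, r7, r8, r9⟩ := rels hT h
  rw [bv_P0, bv_P1, bv_Dw, bv_Dw, bv_Dw, bv_Dw]
  have e010 := hT.s23 (c 0) (c 1) (c 0)
  have e020 := hT.s23 (c 0) (c 2) (c 0)
  have e030 := hT.s23 (c 0) (c 3) (c 0)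
  have e110 := hT.s13 (c 1) (c 1) (c 0)
  have e120 := hT.rot' (c 1) (c 2) (c 0)
  have e130 := hT.rot' (c 1) (c 3) (c 0)
  have e220 := hT.s13 (c 2) (c 2) (c 0)
  have e230 := hT.rot' (c 2) (c 3) (c 0)
  have e330 := hT.s13 (c 3) (c 3) (c 0)
  have e021 := hT.s23 (c 0) (c 2) (c 1)
  have e031 := hT.s23 (c 0) (c 3) (c 1)
  have e121 := hT.s23 (c 1) (c 2) (c 1)
  have e131 := hT.s23 (c 1) (c 3) (c 1)
  have e221 := hT.s13 (c 2) (c 2) (c 1)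
  have e231 := hT.rot' (c 2) (c 3) (c 1)
  have e331 := hT.s13 (c 3) (c 3) (c 1)
  have e032 := hT.s23 (c 0) (c 3) (c 2)
  have e132 := hT.s23 (c 1) (c 3) (c 2)
  have e232 := hT.s23 (c 2) (c 3) (c 2)
  have e332 := hT.s13 (c 3) (c 3) (c 2)
  refine ⟨?_, ?_, ?_, ?_⟩
  · simp only [e010, e020, e110, e030, e120, e130, e220, e230, e330]
    linear_combination r0 * s ^ 6 + 2 * r1 * s ^ 5 * t + r2 * s ^ 4 * t ^ 2
  · simp only [e021, e031, e121, e131, e221, e231, e331]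
    linear_combination r1 * s ^ 6 + 2 * r2 * s ^ 5 * t + r3 * s ^ 4 * t ^ 2 + 2 * r4 * s ^ 3 * t ^ 3 +
      r5 * s ^ 2 * t ^ 4
  · simp only [e032, e132, e232, e332]
    linear_combination r4 * s ^ 4 * t ^ 2 + 2 * r5 * s ^ 3 * t ^ 3 + r6 * s ^ 2 * t ^ 4 + 2 * r7 * s * t ^ 5 +
      r8 * t ^ 6
  · linear_combination r7 * s ^ 2 * t ^ 4 + 2 * r8 * s * t ^ 5 + r9 * t ^ 6

variable (c) in
/-- The deformation attached to two quintics and a cubic. -/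
def sig (e : V) (n0 n1 : Fin (5 + 1) → k) (z : Fin (3 + 1) → k) : Fin 4 → V :=
  ![n0 2 • c 0 + n0 0 • c 2 + n1 0 • c 3 + z 0 • e,
    (n0 3 + 2 * n1 4) • c 0 + n0 1 • c 2 + (n1 1 + 2 * n0 0) • c 3 + z 1 • e,
    (n0 4 + 2 * n1 5) • c 0 + n1 4 • c 1 + (n1 2 + 2 * n0 1) • c 3 + z 2 • e,
    n0 5 • c 0 + n1 5 • c 1 + n1 3 • c 3 + z 3 • e]

/-- its coordinates -/
lemma tpt_sig (e : V) (n0 n1 : Fin (5 + 1) → k) (z : Fin (3 + 1) → k) (s t : k) :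
    ∃ y : Fin 4 → k, tpt (sig c e n0 n1 z) s t = y 0 • c 0 + y 1 • c 1 + y 2 • c 2 + y 3 • c 3 + bv z s t • e ∧
      t ^ 2 * y 0 - 2 * s * t * y 1 + s ^ 2 * y 2 = bv n0 s t ∧
      t ^ 2 * y 1 - 2 * s * t * y 2 + s ^ 2 * y 3 = bv n1 s t := by
  refine ⟨![n0 2 * s ^ 3 + (n0 3 + 2 * n1 4) * s ^ 2 * t + (n0 4 + 2 * n1 5) * s * t ^ 2 + n0 5 * t ^ 3,
    n1 4 * s * t ^ 2 + n1 5 * t ^ 3, n0 0 * s ^ 3 + n0 1 * s ^ 2 * t,
    n1 0 * s ^ 3 + (n1 1 + 2 * n0 0) * s ^ 2 * t + (n1 2 + 2 * n0 1) * s * t ^ 2 + n1 3 * t ^ 3], ?_, ?_, ?_⟩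
  · have hz : bv z s t = z 0 * s ^ 3 + z 1 * s ^ 2 * t + z 2 * s * t ^ 2 + z 3 * t ^ 3 := by
      simp [bv, Fin.sum_univ_succ]
      ring
    rw [hz]
    simp only [tpt, sig, Matrix.cons_val]
    module
  · have h0 : bv n0 s t = n0 0 * s ^ 5 + n0 1 * s ^ 4 * t + n0 2 * s ^ 3 * t ^ 2 + n0 3 * s ^ 2 * t ^ 3 +
        n0 4 * s * t ^ 4 + n0 5 * t ^ 5 := by
      simp [bv, Fin.sum_univ_succ]
      ring
    rw [h0]
    simp only [Matrix.cons_val]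
    ring
  · have h0 : bv n1 s t = n1 0 * s ^ 5 + n1 1 * s ^ 4 * t + n1 2 * s ^ 3 * t ^ 2 + n1 3 * s ^ 2 * t ^ 3 +
        n1 4 * s * t ^ 4 + n1 5 * t ^ 5 := by
      simp [bv, Fin.sum_univ_succ]
      ring
    rw [h0]
    simp only [Matrix.cons_val]
    ring

/-- the main formula -/
lemma T_sig [CharZero k] (hT : IsSym3 T) (h : ∀ s t : k, T (tpt c s t) (tpt c s t) (tpt c s t) = 0)
    (e : V) (n0 n1 : Fin (5 + 1) → k) (z : Fin (3 + 1) → k) (s t : k) :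
    T (tpt c s t) (tpt c s t) (tpt (sig c e n0 n1 z) s t) =
      bv (P0 T c) s t * bv n0 s t + bv (P1 T c) s t * bv n1 s t + bv (Dw T c e) s t * bv z s t := by
  obtain ⟨y, hy, hy0, hy1⟩ := tpt_sig (c := c) e n0 n1 z s t
  obtain ⟨f0, f1, f2, f3⟩ := four hT h s t
  rw [hy]
  simp only [map_add, map_smul, smul_eq_mul]
  rw [T_tpt hT, T_tpt hT, T_tpt hT, T_tpt hT, T_tpt hT, f0, f1, f2, f3, ← hy0, ← hy1]
  ring

/-- common zeros of the two quartics -/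
lemma T_eq_zero [CharZero k] (hT : IsSym3 T) (h : ∀ s t : k, T (tpt c s t) (tpt c s t) (tpt c s t) = 0)
    {s t : k} (h0 : bv (P0 T c) s t = 0) (h1 : bv (P1 T c) s t = 0) (m : Fin 4) :
    T (tpt c s t) (tpt c s t) (c m) = 0 := by
  obtain ⟨f0, f1, f2, f3⟩ := four hT h s t
  rw [T_tpt hT]
  fin_cases m
  · simp only [Fin.zero_eta]
    rw [f0, h0, mul_zero]
  · simp only [Fin.mk_one]
    rw [f1, h0, h1]
    ring
  · change bv (Dw T c (c 2)) s t = 0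
    rw [f2, h0, h1]
    ring
  · change bv (Dw T c (c 3)) s t = 0
    rw [f3, h1, mul_zero]

lemma T_eq_zero_of_mem {x w : V} (h : ∀ m, T x x (c m) = 0) (hw : w ∈ Submodule.span k (Set.range c)) :
    T x x w = 0 := by
  have : Submodule.span k (Set.range c) ≤ LinearMap.ker (T x x) := by
    rw [Submodule.span_le]
    rintro _ ⟨m, rfl⟩
    exact h m
  exact this hw

lemma tpt_ne_zero (hc : LinearIndependent k c) {s t : k} (hst : s ≠ 0 ∨ t ≠ 0) : tpt c s t ≠ 0 := by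
  intro h0
  have h1 : ∑ i : Fin 4, (![s ^ 3, s ^ 2 * t, s * t ^ 2, t ^ 3] : Fin 4 → k) i • c i = 0 := by
    rw [← h0]
    simp [tpt, Fin.sum_univ_succ, add_assoc]
  have h2 := Fintype.linearIndependent_iff.1 hc _ h1
  rcases hst with h | h
  · exact pow_ne_zero 3 h (h2 0)
  · exact pow_ne_zero 3 h (h2 3)

end Forms

section Main

variable {T : (Fin 5 → k) →ₗ[k] (Fin 5 → k) →ₗ[k] (Fin 5 → k) →ₗ[k] k} {c : Fin 4 → Fin 5 → k}

lemma mem_span_of_ker (hc : LinearIndependent k c) {h : Dual k (Fin 5 → k)} (hh : h ≠ 0) (hhc : ∀ m, h (c m) = 0)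
    {w : Fin 5 → k} (hw : h w = 0) : w ∈ Submodule.span k (Set.range c) := by
  have h1 : Submodule.span k (Set.range c) ≤ LinearMap.ker h := by
    rw [Submodule.span_le]
    rintro _ ⟨m, rfl⟩
    exact hhc m
  have h2 : finrank k (Submodule.span k (Set.range c)) = 4 := by
    rw [finrank_span_eq_card hc, Fintype.card_fin]
  have h3 : finrank k (LinearMap.ker h) + 1 = 5 := by
    have h4 := Module.Dual.finrank_ker_add_one_of_ne_zero hh
    rwa [Module.finrank_fin_fun] at h4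
  have h5 : Submodule.span k (Set.range c) = LinearMap.ker h :=
    Submodule.eq_of_le_of_finrank_eq h1 (by omega)
  rw [h5]
  exact hw

/-- the second derivative vanishes on all vectors if it does on `c` and on `e` outside their span -/
lemma T_eq_zero_all (hc : LinearIndependent k c) {h : Dual k (Fin 5 → k)} (hh : h ≠ 0) (hhc : ∀ m, h (c m) = 0)
    {e : Fin 5 → k} (he : h e ≠ 0) {x : Fin 5 → k} (hx : ∀ m, T x x (c m) = 0) (hxe : T x x e = 0)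
    (w : Fin 5 → k) : T x x w = 0 := by
  have h1 : h (w - (h w / h e) • e) = 0 := by
    rw [map_sub, map_smul, smul_eq_mul, div_mul_cancel₀ _ he, sub_self]
  have h2 := T_eq_zero_of_mem hx (mem_span_of_ker hc hh hhc h1)
  rw [map_sub, map_smul, hxe, smul_zero, sub_zero] at h2
  exact h2

theorem tangent_surj [IsAlgClosed k] [CharZero k]
    (hT : IsSym3 T) (hsm : SmoothOn T ⊤) (hc : c ∈ TC T) (G : Fin 10 → k) :
    ∃ σ : Fin 4 → Fin 5 → k, ∀ s t : k, T (tpt c s t) (tpt c s t) (tpt σ s t) =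
      ∑ i : Fin 10, G i * (s ^ (9 - (i : ℕ)) * t ^ (i : ℕ)) := by
  obtain ⟨hli, hcub⟩ := hc
  -- a linear form vanishing on the span
  obtain ⟨h, hh, hhc⟩ : ∃ h : Dual k (Fin 5 → k), h ≠ 0 ∧ ∀ m, h (c m) = 0 := by
    have h1 : Submodule.span k (Set.range c) < ⊤ := by
      refine lt_of_le_of_ne le_top fun h0 => ?_
      have h2 := finrank_span_eq_card hli
      rw [h0, finrank_top, Module.finrank_fin_fun, Fintype.card_fin] at h2
      omega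
    obtain ⟨h, hh, hle⟩ := Submodule.exists_le_ker_of_lt_top _ h1
    exact ⟨h, hh, fun m => hle (Submodule.subset_span ⟨m, rfl⟩)⟩
  -- a vector `e`
  obtain ⟨e, he, he0⟩ : ∃ e, h e ≠ 0 ∧ T (c 0) (c 0) e ≠ 0 := by
    obtain ⟨a, ha⟩ : ∃ a, h a ≠ 0 := by
      by_contra hcon
      push Not at hcon
      exact hh (LinearMap.ext hcon)
    obtain ⟨b, -, hb⟩ := hsm (c 0) trivial (hli.ne_zero 0) (by
      have := hcub 1 0
      simpa [tpt] using this)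
    by_cases h1 : T (c 0) (c 0) a = 0
    · by_cases h2 : h b = 0
      · exact ⟨a + b, by rw [map_add, h2, add_zero]; exact ha, by rw [map_add, h1, zero_add]; exact hb⟩
      · exact ⟨b, h2, hb⟩
    · exact ⟨a, ha, h1⟩
  have hD : Dw T c e ≠ 0 := by
    intro h0
    apply he0
    exact congrFun h0 0
  have hno : ∀ s t : k, (s ≠ 0 ∨ t ≠ 0) → bv (P0 T c) s t = 0 → bv (P1 T c) s t = 0 → bv (Dw T c e) s t = 0 →
      False := by
    intro s t hst h0 h1 h2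
    obtain ⟨w, -, hw⟩ := hsm (tpt c s t) trivial (tpt_ne_zero hli hst) (hcub s t)
    exact hw (T_eq_zero_all hli hh hhc he (T_eq_zero hT hcub h0 h1) (by rw [T_tpt hT]; exact h2) w)
  obtain ⟨β, hβ⟩ := exists_avoid (P0 T c) (P1 T c) (Dw T c e) hD hno
  obtain ⟨a, b, hab⟩ := bezout (p := 3) (q := 5) (P0 T c + β • P1 T c) (Dw T c e) (fun s t hst h1 h2 => by
    refine hβ s t hst ?_ h2
    rw [← h1]
    simp only [bv, Finset.mul_sum, ← Finset.sum_add_distrib]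
    refine Finset.sum_congr rfl fun i _ => ?_
    rw [Pi.add_apply, Pi.smul_apply, smul_eq_mul]
    ring) G
  refine ⟨sig c e a (β • a) b, fun s t => ?_⟩
  rw [T_sig hT hcub]
  change _ = bv (d := 9) G s t
  rw [← hab s t]
  have h3 : bv (β • a) s t = β * bv a s t := by
    rw [bv, bv, Finset.mul_sum]
    refine Finset.sum_congr rfl fun i _ => ?_
    rw [Pi.smul_apply, smul_eq_mul]
    ring
  have h4 : bv (P0 T c + β • P1 T c) s t = bv (P0 T c) s t + β * bv (P1 T c) s t := by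
    simp only [bv, Finset.mul_sum, ← Finset.sum_add_distrib]
    refine Finset.sum_congr rfl fun i _ => ?_
    rw [Pi.add_apply, Pi.smul_apply, smul_eq_mul]
    ring
  rw [h3, h4]
  ring

set_option linter.unusedVariables false in
theorem tangent_bad [IsAlgClosed k] [CharZero k]
    (hT : IsSym3 T) (hsm : SmoothOn T ⊤) (hc : c ∈ TC T)
    (h : Dual k (Fin 5 → k)) (hh : h ≠ 0) (hhc : ∀ m, h (c m) = 0)
    {s₀ t₀ : k} (h0 : s₀ ≠ 0 ∨ t₀ ≠ 0)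
    (hx : ∀ w, h w = 0 → T (tpt c s₀ t₀) (tpt c s₀ t₀) w = 0) :
    ∃ σ : Fin 4 → Fin 5 → k, (∀ s t : k, T (tpt c s t) (tpt c s t) (tpt σ s t) = 0) ∧ (∀ m, h (σ m) = 0) ∧
      ∀ α β : k, tpt σ s₀ t₀ ≠ α • tds c s₀ t₀ + β • tdt c s₀ t₀ := by
  obtain ⟨hli, hcub⟩ := hc
  obtain ⟨m₀, m₁, hm, hx⟩ := exists_syz (P0 T c) (P1 T c) h0
  obtain ⟨l, hl⟩ : ∃ l : Fin (1 + 1) → k, bv l s₀ t₀ ≠ 0 := by
    rcases h0 with h | h
    · exact ⟨![1, 0], by simpa [bv, Fin.sum_univ_two] using h⟩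
    · exact ⟨![0, 1], by simpa [bv, Fin.sum_univ_two] using h⟩
  obtain ⟨n₀, hn₀⟩ := exists_mul m₀ l
  obtain ⟨n₁, hn₁⟩ := exists_mul m₁ l
  refine ⟨sig c 0 n₀ n₁ 0, fun s t => ?_, fun m => ?_, fun α β heq => ?_⟩
  · rw [T_sig hT hcub, hn₀, hn₁]
    have h1 : bv (0 : Fin (3 + 1) → k) s t = 0 := by simp [bv]
    rw [h1]
    linear_combination bv l s t * hm s t
  · fin_cases m <;> simp [sig, hhc]
  · obtain ⟨y, hy, hy0, hy1⟩ := tpt_sig (c := c) 0 n₀ n₁ 0 s₀ t₀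
    rw [heq] at hy
    have h2 : ∑ i : Fin 4, (![α * (3 * s₀ ^ 2) - y 0, α * (2 * s₀ * t₀) + β * s₀ ^ 2 - y 1,
        α * t₀ ^ 2 + β * (2 * s₀ * t₀) - y 2, β * (3 * t₀ ^ 2) - y 3] : Fin 4 → k) i • c i = 0 := by
      have h3 : ∑ i : Fin 4, (![α * (3 * s₀ ^ 2) - y 0, α * (2 * s₀ * t₀) + β * s₀ ^ 2 - y 1,
          α * t₀ ^ 2 + β * (2 * s₀ * t₀) - y 2, β * (3 * t₀ ^ 2) - y 3] : Fin 4 → k) i • c i =
          (α • tds c s₀ t₀ + β • tdt c s₀ t₀) - (y 0 • c 0 + y 1 • c 1 + y 2 • c 2 + y 3 • c 3) := by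
        simp only [Fin.sum_univ_four, Matrix.cons_val, tds, tdt]
        module
      rw [h3, hy, smul_zero, add_zero, sub_self]
    have h3 := Fintype.linearIndependent_iff.1 hli _ h2
    have g0 : y 0 = α * (3 * s₀ ^ 2) := by
      have := h3 0
      simp only [Matrix.cons_val] at this
      linear_combination -this
    have g1 : y 1 = α * (2 * s₀ * t₀) + β * s₀ ^ 2 := by
      have := h3 1
      simp only [Matrix.cons_val] at this
      linear_combination -this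
    have g2 : y 2 = α * t₀ ^ 2 + β * (2 * s₀ * t₀) := by
      have := h3 2
      simp only [Matrix.cons_val] at this
      linear_combination -this
    have g3 : y 3 = β * (3 * t₀ ^ 2) := by
      have := h3 3
      simp only [Matrix.cons_val] at this
      linear_combination -this
    have e0 : bv n₀ s₀ t₀ = 0 := by
      rw [← hy0, g0, g1, g2]
      ring
    have e1 : bv n₁ s₀ t₀ = 0 := by
      rw [← hy1, g1, g2, g3]
      ring
    rw [hn₀] at e0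
    rw [hn₁] at e1
    rcases hx with hx | hx
    · exact mul_ne_zero hx hl e0
    · exact mul_ne_zero hx hl e1

/-- Forms of degree nine are combinations of two quartics without common zero. -/
lemma bezout_nine [IsAlgClosed k] (P Q : Fin (4 + 1) → k)
    (h : ∀ s t : k, (s ≠ 0 ∨ t ≠ 0) → bv P s t = 0 → bv Q s t = 0 → False) (G : Fin (9 + 1) → k) :
    ∃ a b : Fin (5 + 1) → k, ∀ s t : k, bv P s t * bv a s t + bv Q s t * bv b s t = bv G s t := by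
  obtain ⟨a, b, hab⟩ := bezout (p := 3) (q := 3) P Q h ![G 0, G 1, G 2, G 3, G 4, G 5, G 6, G 7]
  obtain ⟨a', b', hab'⟩ := bezout (p := 3) (q := 3) P Q h ![0, 0, 0, 0, 0, 0, G 8, G 9]
  refine ⟨![a 0, a 1, a 2 + a' 0, a 3 + a' 1, a' 2, a' 3], ![b 0, b 1, b 2 + b' 0, b 3 + b' 1, b' 2, b' 3],
    fun s t => ?_⟩
  have e1 : ∀ a a' : Fin (3 + 1) → k,
      bv (![a 0, a 1, a 2 + a' 0, a 3 + a' 1, a' 2, a' 3] : Fin (5 + 1) → k) s t =
      s ^ 2 * bv a s t + t ^ 2 * bv a' s t := by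
    intro a a'
    simp [bv, Fin.sum_univ_succ]
    ring
  have e2 : bv G s t = s ^ 2 * bv (![G 0, G 1, G 2, G 3, G 4, G 5, G 6, G 7] : Fin (7 + 1) → k) s t +
      t ^ 2 * bv (![0, 0, 0, 0, 0, 0, G 8, G 9] : Fin (7 + 1) → k) s t := by
    simp [bv, Fin.sum_univ_succ]
    ring
  rw [e1, e1, e2]
  have h1 := hab s t
  have h2 := hab' s t
  linear_combination s ^ 2 * h1 + t ^ 2 * h2

set_option linter.unusedVariables false in
theorem tangent_good [IsAlgClosed k] [CharZero k]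
    (hT : IsSym3 T) (hsm : SmoothOn T ⊤) (hc : c ∈ TC T)
    (h : Dual k (Fin 5 → k)) (hh : h ≠ 0) (hhc : ∀ m, h (c m) = 0)
    (hx : ∀ s t : k, (s ≠ 0 ∨ t ≠ 0) → ∃ w, h w = 0 ∧ T (tpt c s t) (tpt c s t) w ≠ 0) (g : Fin 4 → k) :
    ∃ σ : Fin 4 → Fin 5 → k, (∀ s t : k, T (tpt c s t) (tpt c s t) (tpt σ s t) = 0) ∧ ∀ m, h (σ m) = g m := by
  obtain ⟨hli, hcub⟩ := hc
  obtain ⟨e, he⟩ : ∃ e, h e = 1 := by
    obtain ⟨a, ha⟩ : ∃ a, h a ≠ 0 := by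
      by_contra hcon
      push Not at hcon
      exact hh (LinearMap.ext hcon)
    exact ⟨(h a)⁻¹ • a, by rw [map_smul, smul_eq_mul, inv_mul_cancel₀ ha]⟩
  have hno : ∀ s t : k, (s ≠ 0 ∨ t ≠ 0) → bv (P0 T c) s t = 0 → bv (P1 T c) s t = 0 → False := by
    intro s t hst h0 h1
    obtain ⟨w, hw, hw1⟩ := hx s t hst
    exact hw1 (T_eq_zero_of_mem (T_eq_zero hT hcub h0 h1) (mem_span_of_ker hli hh hhc hw))
  obtain ⟨G, hG⟩ := exists_mul (Dw T c e) (g : Fin (3 + 1) → k)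
  obtain ⟨a, b, hab⟩ := bezout_nine (P0 T c) (P1 T c) hno (-G)
  refine ⟨sig c e a b g, fun s t => ?_, fun m => ?_⟩
  · rw [T_sig hT hcub, hab, ← hG]
    have h1 : bv (-G) s t = - bv G s t := by
      rw [bv, bv, ← Finset.sum_neg_distrib]
      exact Finset.sum_congr rfl fun i _ => neg_mul _ _
    rw [h1, neg_add_cancel]
  · fin_cases m <;> simp [sig, hhc, he]

end Main

end K798.TwTan
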