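import Groth.Agent.Fano.K470.CurDef
import Groth.Agent.Fano.K714.Codim

/-!
# Dimension of subsets of vector spaces and heights of ideals of polynomial functions

`R = k[V]` (polynomial functions), `k` algebraically closed.

* `dimGE_iff`: `DimGE k S d` iff there is a minimal prime `P` over the ideal of `S` with `ht P + d ≤ dim V`.
* `dimGE_of_prime`: the same with any prime containing the ideal of `S`.
* `zer`, `vanishingFun_zer`, `irr_zer`, `isPrime_of_irr`: closed irreducible sets and primes.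
* `height_le_add_ncard`: a minimal prime over `P + (s)` has height `≤ ht P + |s|`.
-/

set_option autoImplicit false

universe u

namespace K798.Dim

open LefPen Groth.Agent.Lefpen.H703.ZOpen Module K714.Irr K470.Cur MvPolynomial

variable {k : Type u} [Field k]
variable {V W : Type u} [AddCommGroup V] [Module k V] [AddCommGroup W] [Module k W]

/-- zero set of an ideal of polynomial functions -/
def zer (I : Ideal (PolyAlg k V)) : Set V := {v | ∀ f ∈ I, f.1 v = 0}

theorem mem_zer {I : Ideal (PolyAlg k V)} {v : V} : v ∈ zer I ↔ ∀ f ∈ I, f.1 v = 0 := Iff.rfl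

theorem mem_vanishingFun {S : Set V} {f : PolyAlg k V} : f ∈ vanishingFun k S ↔ ∀ v ∈ S, f.1 v = 0 := Iff.rfl

theorem zer_anti {I J : Ideal (PolyAlg k V)} (h : I ≤ J) : zer J ⊆ zer I := fun _ hv f hf => hv f (h hf)

theorem vanishingFun_anti {S S' : Set V} (h : S ⊆ S') : vanishingFun k S' ≤ vanishingFun k S :=
  fun _ hf v hv => hf v (h hv)

theorem subset_zer (S : Set V) : S ⊆ zer (vanishingFun k S) := fun v hv _ hf => hf v hv

theorem isZOpen_compl_zer (I : Ideal (PolyAlg k V)) : IsZOpen k (zer I)ᶜ := by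
  intro v hv
  simp only [Set.mem_compl_iff, mem_zer, not_forall] at hv
  obtain ⟨f, hf, hfv⟩ := hv
  exact ⟨f.1, f.2, hfv, fun w hw h => hw (h f hf)⟩

theorem zer_vanishingFun {S : Set V} (hS : IsZOpen k Sᶜ) : zer (vanishingFun k S) = S := by
  refine Set.Subset.antisymm ?_ (subset_zer S)
  intro v hv
  by_contra hvS
  obtain ⟨f, hf, hfv, hfS⟩ := hS v hvS
  refine hfv (hv ⟨f, hf⟩ fun w hw => ?_)
  by_contra h
  exact hfS w h hw

theorem isPrime_of_irr {S : Set V} (hS : Irr k S) : (vanishingFun k S).IsPrime := by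
  refine ⟨?_, ?_⟩
  · intro h
    obtain ⟨s, hs⟩ := hS.1
    have h1 : (1 : PolyAlg k V) ∈ vanishingFun k S := by rw [h]; trivial
    exact one_ne_zero (h1 s hs)
  · intro f g hfg
    by_contra hcon
    push Not at hcon
    obtain ⟨h1, h2⟩ := hcon
    simp only [mem_vanishingFun, not_forall] at h1 h2
    obtain ⟨v, hv, hfv⟩ := h1
    obtain ⟨w, hw, hgw⟩ := h2
    obtain ⟨x, hx, hx1, hx2⟩ := hS.2 _ _ (isZOpen_basic f.2) (isZOpen_basic g.2) ⟨v, hv, hfv⟩ ⟨w, hw, hgw⟩
    exact mul_ne_zero hx1 hx2 (hfg x hx)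

theorem irr_of_isPrime {S : Set V} (hS : (vanishingFun k S).IsPrime) : Irr k S := by
  refine ⟨?_, ?_⟩
  · by_contra h
    rw [Set.not_nonempty_iff_eq_empty] at h
    subst h
    exact hS.ne_top ((Ideal.eq_top_iff_one _).2 fun v hv => hv.elim)
  · rintro O O' hO hO' ⟨v, hv, hvO⟩ ⟨w, hw, hwO⟩
    obtain ⟨f, hf, hfv, hfO⟩ := hO v hvO
    obtain ⟨g, hg, hgw, hgO⟩ := hO' w hwO
    by_contra hcon
    rw [Set.not_nonempty_iff_eq_empty] at hcon
    have h1 : (⟨f, hf⟩ : PolyAlg k V) * ⟨g, hg⟩ ∈ vanishingFun k S := by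
      intro x hx
      by_contra hne
      have h2 : f x * g x ≠ 0 := hne
      have h3 : x ∈ S ∩ (O ∩ O') := ⟨hx, hfO x (left_ne_zero_of_mul h2), hgO x (right_ne_zero_of_mul h2)⟩
      rw [hcon] at h3
      exact h3
    rcases hS.mem_or_mem h1 with h2 | h2
    · exact hfv (h2 v hv)
    · exact hgw (h2 w hw)

/-- an open part of an irreducible set has the same ideal -/
theorem vanishingFun_inter {S O : Set V} (hS : Irr k S) (hO : IsZOpen k O) (hne : (S ∩ O).Nonempty) :
    vanishingFun k (S ∩ O) = vanishingFun k S := by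
  refine le_antisymm ?_ (vanishingFun_anti Set.inter_subset_left)
  intro f hf v hv
  by_contra hfv
  obtain ⟨x, hx, hx1, hx2⟩ := hS.2 _ _ hO (isZOpen_basic f.2) hne ⟨v, hv, hfv⟩
  exact hx2 (hf x ⟨hx, hx1⟩)

/-- `d` polynomial functions algebraically independent modulo `I` -/
def Ind (I : Ideal (PolyAlg k V)) (d : ℕ) : Prop :=
  ∃ f : Fin d → PolyAlg k V, ∀ p : MvPolynomial (Fin d) k, aeval f p ∈ I → p = 0

theorem aeval_apply {ι : Type} (f : ι → PolyAlg k V) (p : MvPolynomial ι k) (v : V) :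
    (aeval f p).1 v = eval (fun i => (f i).1 v) p := by
  induction p using MvPolynomial.induction_on with
  | C a => simp
  | add p q hp hq => simp only [map_add]; rw [← hp, ← hq]; rfl
  | mul_X p i hp => simp only [map_mul, aeval_X, eval_X]; rw [← hp]; rfl

theorem dimGE_iff_ind [Infinite k] {S : Set V} {d : ℕ} : DimGE k S d ↔ Ind (vanishingFun k S) d := by
  constructor
  · rintro ⟨φ, hφ, h⟩
    rw [isPolyMap_pi] at hφ
    refine ⟨fun i => ⟨fun v => φ v i, hφ i⟩, fun p hp => ?_⟩
    by_contra hne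
    obtain ⟨x, hx⟩ : ∃ x, eval x p ≠ 0 := by
      by_contra hcon
      push Not at hcon
      exact hne (MvPolynomial.funext fun x => by rw [hcon, map_zero])
    have hO : IsZOpen k {x : Fin d → k | eval x p ≠ 0} :=
      isZOpen_basic (isPolyFun_eval p fun i => isPolyFun_linear' (LinearMap.proj (R := k) (φ := fun _ : Fin d => k) i))
    obtain ⟨s, hs, hs'⟩ := h _ hO ⟨x, hx⟩
    have h1 := hp s hs
    rw [aeval_apply] at h1
    exact hs' h1
  · rintro ⟨f, hf⟩
    refine ⟨fun v i => (f i).1 v, isPolyMap_pi.2 fun i => (f i).2, ?_⟩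
    rintro O hO ⟨x, hx⟩
    obtain ⟨g, hg, hgx, hgO⟩ := hO x hx
    obtain ⟨p, hp⟩ := K714.Codim.exists_mvPoly (Pi.basisFun k (Fin d)) hg
    have hp' : ∀ y, g y = eval y p := fun y => by
      rw [hp]
      rfl
    have hne : p ≠ 0 := by
      rintro rfl
      rw [hp'] at hgx
      simp at hgx
    have h1 : aeval f p ∉ vanishingFun k S := fun h => hne (hf p h)
    simp only [mem_vanishingFun, not_forall] at h1
    obtain ⟨s, hs, hs'⟩ := h1
    refine ⟨s, hs, hgO _ ?_⟩
    rw [hp', ← aeval_apply]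
    exact hs'

theorem Ind.mono {I J : Ideal (PolyAlg k V)} (h : I ≤ J) {d : ℕ} (hJ : Ind J d) : Ind I d := by
  obtain ⟨f, hf⟩ := hJ
  exact ⟨f, fun p hp => hf p (h hp)⟩

theorem Ind.exists_minimal {I : Ideal (PolyAlg k V)} {d : ℕ} (h : Ind I d) :
    ∃ P ∈ I.minimalPrimes, Ind P d := by
  obtain ⟨f, hf⟩ := h
  have h1 : I.comap (aeval f : MvPolynomial (Fin d) k →ₐ[k] PolyAlg k V).toRingHom = ⊥ := by
    rw [eq_bot_iff]
    intro p hp
    exact hf p hp
  have h2 : (⊥ : Ideal (MvPolynomial (Fin d) k)) ∈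
      (I.comap (aeval f : MvPolynomial (Fin d) k →ₐ[k] PolyAlg k V).toRingHom).minimalPrimes := by
    rw [h1]
    exact ⟨⟨Ideal.isPrime_bot, le_rfl⟩, fun _ _ _ => bot_le⟩
  obtain ⟨P, hP, hP2⟩ := Ideal.exists_minimalPrimes_comap_eq _ _ h2
  refine ⟨P, hP, f, fun p hp => ?_⟩
  have h3 : p ∈ P.comap (aeval f : MvPolynomial (Fin d) k →ₐ[k] PolyAlg k V).toRingHom := hp
  rw [hP2] at h3
  exact h3

section Gen

variable {R : Type u} [CommRing R] [Algebra k R]

theorem le_of_ind (P : Ideal R) [P.IsPrime] {d : ℕ} (f : Fin d → R)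
    (hf : ∀ p : MvPolynomial (Fin d) k, aeval f p ∈ P → p = 0) {e : ℕ} (h1 : Algebra.trdeg k (R ⧸ P) = e) :
    d ≤ e := by
  have h5 : AlgebraicIndependent k (fun i => Ideal.Quotient.mkₐ k P (f i)) := by
    rw [algebraicIndependent_iff]
    intro p hp
    refine hf p ?_
    rw [← MvPolynomial.comp_aeval_apply] at hp
    exact Ideal.Quotient.eq_zero_iff_mem.1 hp
  have h7 := h5.lift_cardinalMk_le_trdeg
  rw [h1] at h7
  simpa using h7

/-- Noether normalisation of `R/P` -/
theorem exists_noether_alg [Algebra.FiniteType k R] (P : Ideal R) [P.IsPrime] {e : ℕ}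
    (h1 : Algebra.trdeg k (R ⧸ P) = e) :
    ∃ y : Fin e → R, (∀ p : MvPolynomial (Fin e) k, aeval y p ∈ P → p = 0) ∧
      ∀ x : R, ∃ F : Polynomial (MvPolynomial (Fin e) k), F.Monic ∧
        Polynomial.eval₂ (aeval y : MvPolynomial (Fin e) k →ₐ[k] R).toRingHom x F ∈ P := by
  obtain ⟨s, g, hg, hgf⟩ := exists_finite_inj_algHom_of_fg k (R ⧸ P)
  have hs : s = e := by
    algebraize [g.toRingHom]
    have : Module.Finite (MvPolynomial (Fin s) k) (R ⧸ P) := hgf
    have : Algebra.IsIntegral (MvPolynomial (Fin s) k) (R ⧸ P) := inferInstance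
    have hfs : FaithfulSMul (MvPolynomial (Fin s) k) (R ⧸ P) :=
      (faithfulSMul_iff_algebraMap_injective _ _).mpr hg
    have : IsScalarTower k (MvPolynomial (Fin s) k) (R ⧸ P) :=
      IsScalarTower.of_algebraMap_eq (fun x => (g.commutes x).symm)
    have h5 := lift_trdeg_add_eq (R := k) (S := MvPolynomial (Fin s) k) (A := R ⧸ P)
    have h6 : Algebra.trdeg (MvPolynomial (Fin s) k) (R ⧸ P) = 0 := trdeg_eq_zero
    rw [h6, MvPolynomial.trdeg_of_isDomain, h1] at h5
    simpa using h5
  subst hs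
  choose y hy using fun i : Fin s => Ideal.Quotient.mk_surjective (g (X i))
  have h5 : (Ideal.Quotient.mkₐ k P).comp (aeval y) = g :=
    MvPolynomial.algHom_ext fun i => by
      simp only [AlgHom.comp_apply, aeval_X, Ideal.Quotient.mkₐ_eq_mk]
      exact hy i
  refine ⟨y, fun p hp => ?_, fun x => ?_⟩
  · have h6 : Ideal.Quotient.mkₐ k P (aeval y p) = 0 := Ideal.Quotient.eq_zero_iff_mem.2 hp
    rw [← AlgHom.comp_apply, h5] at h6
    exact hg (by rw [h6, map_zero])
  · obtain ⟨F, hF, hFx⟩ := hgf.to_isIntegral (Ideal.Quotient.mk P x)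
    refine ⟨F, hF, ?_⟩
    rw [← Ideal.Quotient.eq_zero_iff_mem, Polynomial.hom_eval₂]
    have h6 : (Ideal.Quotient.mk P).comp (aeval y : MvPolynomial (Fin s) k →ₐ[k] R).toRingHom = g.toRingHom := by
      rw [← h5]
      rfl
    rw [h6]
    exact hFx

end Gen

section AC

variable [FiniteDimensional k V]

/-- coordinates -/
noncomputable def crd [Infinite k] : MvPolynomial (Fin (finrank k V)) k ≃ₐ[k] PolyAlg k V :=
  AlgEquiv.ofBijective (K714.Codim.coordHom (finBasis k V))
    ⟨K714.Codim.coordHom_injective _, K714.Codim.coordHom_surjective _⟩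

theorem crd_apply [Infinite k] (p : MvPolynomial (Fin (finrank k V)) k) (v : V) :
    (crd p : PolyAlg k V).1 v = eval ((finBasis k V).equivFun v) p :=
  K714.Codim.coordHom_apply (finBasis k V) p v

theorem isDomain_polyAlg [Infinite k] : IsDomain (PolyAlg k V) :=
  (crd (k := k) (V := V)).toMulEquiv.symm.isDomain _

theorem finiteType_polyAlg : Algebra.FiniteType k (PolyAlg k V) :=
  Algebra.FiniteType.of_surjective (K714.Codim.coordHom (finBasis k V)) (K714.Codim.coordHom_surjective _)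

attribute [local instance] isDomain_polyAlg finiteType_polyAlg

theorem isNoetherianRing_polyAlg : IsNoetherianRing (PolyAlg k V) := Algebra.FiniteType.isNoetherianRing k _

attribute [local instance] isNoetherianRing_polyAlg

theorem exists_nat_dim [Infinite k] (P : Ideal (PolyAlg k V)) [P.IsPrime] :
    ∃ d h : ℕ, Algebra.trdeg k (PolyAlg k V ⧸ P) = d ∧ P.height = h ∧ h + d = finrank k V := by
  obtain ⟨d, h, -, h2, h3, h4⟩ := K714.DimMv.exists_nat_dim (P.comap (crd (k := k) (V := V)).toRingEquiv)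
  refine ⟨d, h, ?_, ?_, by rw [h4, Nat.card_fin]⟩
  · rw [← h2]
    have h5 : P = (P.comap (crd (k := k) (V := V)).toRingEquiv).map
        ((crd (k := k) (V := V) : MvPolynomial (Fin (finrank k V)) k ≃ₐ[k] PolyAlg k V) :
          MvPolynomial (Fin (finrank k V)) k →+* PolyAlg k V) :=
      (Ideal.map_comap_of_surjective _ (crd (k := k) (V := V)).surjective P).symm
    exact (AlgEquiv.trdeg_eq (Ideal.quotientEquivAlg _ P (crd (k := k) (V := V)) h5)).symm
  · rw [← h3]
    exact (RingEquiv.height_comap (crd (k := k) (V := V)).toRingEquiv P).symm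

theorem ind_iff [Infinite k] (P : Ideal (PolyAlg k V)) [P.IsPrime] {d : ℕ} :
    Ind P d ↔ P.height + d ≤ (finrank k V : ℕ∞) := by
  obtain ⟨e, h, h1, h2, h3⟩ := exists_nat_dim P
  rw [h2]
  have h4 : (h : ℕ∞) + d ≤ (finrank k V : ℕ∞) ↔ d ≤ e := by
    rw [← h3]
    norm_cast
    omega
  rw [h4]
  constructor
  · rintro ⟨f, hf⟩
    exact le_of_ind P f hf h1
  · intro hde
    obtain ⟨y, h5, -⟩ := exists_noether_alg P h1
    refine ⟨fun i => y (Fin.castLE hde i), fun p hp => ?_⟩
    have h6 := h5 (rename (Fin.castLE hde) p) (by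
      rw [aeval_rename]
      exact hp)
    exact rename_injective _ (Fin.castLE_injective hde) (by rw [h6, map_zero])

theorem dimGE_iff [Infinite k] {S : Set V} {d : ℕ} :
    DimGE k S d ↔ ∃ P ∈ (vanishingFun k S).minimalPrimes, P.height + d ≤ (finrank k V : ℕ∞) := by
  rw [dimGE_iff_ind]
  constructor
  · intro h
    obtain ⟨P, hP, h1⟩ := h.exists_minimal
    have := hP.1.1
    exact ⟨P, hP, (ind_iff P).1 h1⟩
  · rintro ⟨P, hP, h1⟩
    have := hP.1.1
    exact ((ind_iff P).2 h1).mono hP.1.2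

theorem dimGE_of_prime [Infinite k] {S : Set V} {d : ℕ} (P : Ideal (PolyAlg k V)) [P.IsPrime]
    (h : vanishingFun k S ≤ P) (h1 : P.height + d ≤ (finrank k V : ℕ∞)) : DimGE k S d :=
  dimGE_iff_ind.2 (((ind_iff P).2 h1).mono h)

theorem height_le_of_dimGE [Infinite k] {S : Set V} {d : ℕ} [(vanishingFun k S).IsPrime] (h : DimGE k S d) :
    (vanishingFun k S).height + d ≤ (finrank k V : ℕ∞) :=
  (ind_iff _).1 (dimGE_iff_ind.1 h)

/-- link with codimension -/
theorem dimLE_iff [Infinite k] {S : Set V} {d : ℕ} (hd : d ≤ finrank k V) :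
    DimLE k S d ↔ CodimGE k S (finrank k V - d) := by
  rw [DimLE, dimGE_iff_ind, CodimGE, K714.Codim.le_height_iff]
  have key : ∀ P : Ideal (PolyAlg k V), P.IsPrime →
      (¬ Ind P (d + 1) ↔ ((finrank k V - d : ℕ) : ℕ∞) ≤ P.height) := by
    intro P hP
    rw [ind_iff]
    obtain ⟨e, h, -, h2, h3⟩ := exists_nat_dim P
    rw [h2]
    norm_cast
    omega
  constructor
  · intro h P hP hle
    exact (key P hP).1 fun h1 => h (h1.mono hle)
  · intro h h1
    obtain ⟨P, hP, h2⟩ := h1.exists_minimal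
    exact (key P hP.1.1).2 (h P hP.1.1 hP.1.2) h2

/-- a minimal prime over the ideal of `S` vanishes at some point of `S` -/
theorem exists_mem_zer {S : Set V} {P : Ideal (PolyAlg k V)} (hP : P ∈ (vanishingFun k S).minimalPrimes) :
    ∃ s ∈ S, s ∈ zer P := by
  have h1 : (vanishingFun k S : Submodule (PolyAlg k V) (PolyAlg k V)).colon {(1 : PolyAlg k V)} =
      vanishingFun k S := by
    ext r
    rw [Submodule.mem_colon_singleton, smul_eq_mul, mul_one]
  have h2 : P ∈ ((vanishingFun k S : Submodule (PolyAlg k V) (PolyAlg k V)).colon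
      {(1 : PolyAlg k V)}).minimalPrimes := by
    rw [h1]
    exact hP
  obtain ⟨y, hy⟩ := Submodule.exists_eq_colon_of_mem_minimalPrimes h2
  have h3 : y ∉ vanishingFun k S := by
    intro h
    refine hP.1.1.ne_top ((Ideal.eq_top_iff_one _).2 ?_)
    rw [hy, Submodule.mem_colon_singleton, smul_eq_mul, one_mul]
    exact h
  simp only [mem_vanishingFun, not_forall] at h3
  obtain ⟨s, hs, hys⟩ := h3
  refine ⟨s, hs, fun f hf => ?_⟩
  rw [hy, Submodule.mem_colon_singleton, smul_eq_mul] at hf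
  have h4 : f.1 s * y.1 s = 0 := hf s hs
  exact (mul_eq_zero.1 h4).resolve_right hys

variable (k) in
omit [FiniteDimensional k V] in
/-- a minimal prime over `P + (s)` has height at most `ht P + |s|` -/
theorem height_le_add_ncard {R : Type u} [CommRing R] [IsDomain R] [Algebra k R] [Algebra.FiniteType k R]
    {P Q : Ideal R} [P.IsPrime] {s : Set R}
    (hs : s.Finite) (hQ : Q ∈ (P ⊔ Ideal.span s).minimalPrimes) : Q.height ≤ P.height + s.ncard := by
  have : IsNoetherianRing R := Algebra.FiniteType.isNoetherianRing k R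
  have hQp : Q.IsPrime := hQ.1.1
  have hPQ : P ≤ Q := le_sup_left.trans hQ.1.2
  set Q1 : Ideal (R ⧸ P) := Q.map (Ideal.Quotient.mk P) with hQ1
  have hker : RingHom.ker (Ideal.Quotient.mk P) ≤ Q := by rw [Ideal.mk_ker]; exact hPQ
  have hQ1p : Q1.IsPrime := Ideal.map_isPrime_of_surjective Ideal.Quotient.mk_surjective hker
  have h2 := Groth.Agent.CalgC.DimFT.height_add_height_quotient k R P Q1
  rw [hQ1, Ideal.comap_map_mk hPQ, ← hQ1] at h2
  have h3 : Q1 ∈ (Ideal.span (Ideal.Quotient.mk P '' s)).minimalPrimes := by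
    rw [← Ideal.map_span, Ideal.minimalPrimes_map_of_surjective Ideal.Quotient.mk_surjective,
      Ideal.mk_ker]
    exact ⟨Q, by rwa [sup_comm], rfl⟩
  have h4 := Ideal.height_le_card_of_mem_minimalPrimes_span (hs.image _) h3
  have h5 : (Ideal.Quotient.mk P '' s).ncard ≤ s.ncard := Set.ncard_image_le hs
  rw [← h2]
  exact add_le_add le_rfl (h4.trans (by exact_mod_cast h5))

section Null

variable [IsAlgClosed k]

theorem vanishingFun_zer (P : Ideal (PolyAlg k V)) [P.IsPrime] : vanishingFun k (zer P) = P := by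
  have : Infinite k := IsAlgClosed.instInfinite
  refine le_antisymm ?_ fun f hf v hv => hv f hf
  intro f hf
  let P' := P.comap (crd (k := k) (V := V)).toRingEquiv
  have h1 := IsPrime.vanishingIdeal_zeroLocus (K := k) P'
  have h2 : (crd (k := k) (V := V)).symm f ∈ P' := by
    rw [← h1, mem_vanishingIdeal_iff]
    intro x hx
    have h3 : (finBasis k V).equivFun.symm x ∈ zer P := by
      intro g hg
      have h4 : (crd (k := k) (V := V)).symm g ∈ P' := by
        change crd (k := k) (V := V) ((crd (k := k) (V := V)).symm g) ∈ P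
        rwa [AlgEquiv.apply_symm_apply]
      have h5 := hx _ h4
      rw [aeval_eq_eval] at h5
      have h6 := crd_apply ((crd (k := k) (V := V)).symm g) ((finBasis k V).equivFun.symm x)
      rw [AlgEquiv.apply_symm_apply, LinearEquiv.apply_symm_apply] at h6
      rw [h6]
      exact h5
    have h7 := hf _ h3
    have h6 := crd_apply ((crd (k := k) (V := V)).symm f) ((finBasis k V).equivFun.symm x)
    rw [AlgEquiv.apply_symm_apply, LinearEquiv.apply_symm_apply, h7] at h6
    rw [aeval_eq_eval]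
    exact h6.symm
  have h3 : crd (k := k) (V := V) ((crd (k := k) (V := V)).symm f) ∈ P := h2
  rwa [AlgEquiv.apply_symm_apply] at h3

theorem irr_zer (P : Ideal (PolyAlg k V)) [hP : P.IsPrime] : Irr k (zer P) := by
  refine irr_of_isPrime ?_
  rw [vanishingFun_zer]
  exact hP

end Null

end AC

end K798.Dim
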